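import Cfsg.Agent.H536.K4.LyData
import Cfsg.Agent.H714.K4.Defs
import Cfsg.Agent.OrdDiv.Table
import Cfsg.Agent.S0000

/-!
# Rows Ly of S4947 and S4547 (helper536)

`good5 : Spor.IsoLy S → Good5 S`, `rowA : Spor.IsoLy S → RowA S`.
-/

set_option autoImplicit false

open Cfsg Cfsg.Agent.Characters.Core
open Cfsg.Agent.H601.K4 (Good Good5)
open Cfsg.Agent.H714.K4 (k0 RowA)

namespace Cfsg.Agent.H536.K4.Ly

universe u

theorem base : Cfsg.Agent.H940.Eng.Base where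
  table := Cfsg.Agent.OrdDiv.table
  known _ _ _ _ := Cfsg.Agent.S0000.result

/-- [row] Ly of S4547 -/
theorem good5 {S : Type u} [Group S] (h : Cfsg.Spor.IsoLy S) : Good5 S := by
  have hfin : Finite Spor.Ly := Cfsg.Agent.Ly.Setup.finite_ly
  obtain ⟨ψ, hD⟩ := exists_data base
  obtain ⟨e⟩ := h
  have hS : Finite S := Finite.of_equiv _ e.symm.toEquiv
  exact Cfsg.Agent.H329.K4.good5_of_equiv (Cfsg.Agent.H989.TwoCSpor.twoC_ly ⟨e⟩) e (LyGood.good5_of_data hD)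

/-- [row] Ly of S4947 -/
theorem rowA {S : Type u} [Group S] (h : Cfsg.Spor.IsoLy S) : RowA S := by
  have hfin : Finite Spor.Ly := Cfsg.Agent.Ly.Setup.finite_ly
  have hS : Finite S := Finite.of_equiv _ h.some.symm.toEquiv
  obtain ⟨χ, hχ, hg⟩ := good5 h
  right
  rw [Cfsg.Agent.H714.K4.k0_eq]
  have h1 : Set.range χ ⊆ Cfsg.Agent.H714.K4.odd S := by
    rintro _ ⟨i, rfl⟩
    exact (hg i).odd
  have h2 := Set.ncard_le_ncard h1 (Cfsg.Agent.H714.K4.odd_finite S)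
  rwa [Set.ncard_range_of_injective hχ, Nat.card_eq_fintype_card, Fintype.card_fin] at h2

end Cfsg.Agent.H536.K4.Ly
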