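import Cfsg.Agent.H536.K4.RuX
import Cfsg.Agent.H536.K4.RuFin
import Cfsg.Agent.H597.Taketa

/-!
# Row (A) of S4947 for the Rudvalis group (helper536)

`rowA : Spor.IsoRu S → RowA S`.
-/

set_option autoImplicit false
set_option linter.unusedSectionVars false
set_option maxRecDepth 100000
set_option exponentiation.threshold 5000

namespace Cfsg.Agent.H536.K4.Ru

open Cfsg Subgroup Cfsg.Agent.Characters.Core Cfsg.Agent.SporadicB
open Cfsg.Agent.RuD.Letters (ml)
open Cfsg.Agent.SporRec.TCUpperCert (wprod)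
open Cfsg.Agent.H714.K4 (k0 RowA)
open Cfsg.Agent.H536.K4.RuX (X Y)
open Cfsg.Agent.H536.K4.RuAbs
open scoped commutatorElement

universe u

/-! ### the degrees of the constituents of the permutation character -/

theorem cand : ∀ f < 4060, f * (4059 - f) ∣ (1 + 1755 + 2304) * 1755 * 2304 →
    f ∈ [0, 27, 144, 315, 783, 1755, 2304, 3276, 3744, 3915, 4032, 4059] := by decide +kernel

theorem not_sq {n a : ℕ} (h1 : a * a < n) (h2 : n < (a + 1) * (a + 1)) : ¬ IsSquare n := by
  rintro ⟨r, rfl⟩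
  have h3 : a < r := by
    by_contra h
    push Not at h
    exact absurd (Nat.mul_le_mul h h) (by omega)
  have h4 : r < a + 1 := by
    by_contra h
    push Not at h
    exact absurd (Nat.mul_le_mul h h) (by omega)
  omega

theorem degrees {f g D : ℕ} (h1 : f + g = 1755 + 2304) (h2 : f * g * D = (1 + 1755 + 2304) * 1755 * 2304)
    (h3 : f ≠ g → IsSquare D) : (f = 783 ∧ g = 3276) ∨ (f = 3276 ∧ g = 783) := by
  have hg : g = 4059 - f := by omega
  have hne : f ≠ g := by omega
  have hD := h3 hne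
  subst hg
  have h4 := cand f (by omega) ⟨D, h2.symm⟩
  have k1 : D = 150800 → False := fun h => not_sq (n := 150800) (a := 388) (by norm_num) (by norm_num) (h ▸ hD)
  have k2 : D = 29120 → False := fun h => not_sq (n := 29120) (a := 170) (by norm_num) (by norm_num) (h ▸ hD)
  have k3 : D = 13920 → False := fun h => not_sq (n := 13920) (a := 117) (by norm_num) (by norm_num) (h ▸ hD)
  have k4 : D = 4060 → False := fun h => not_sq (n := 4060) (a := 63) (by norm_num) (by norm_num) (h ▸ hD)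
  simp only [List.mem_cons, List.not_mem_nil, or_false] at h4
  rcases h4 with rfl | rfl | rfl | rfl | rfl | rfl | rfl | rfl | rfl | rfl | rfl | rfl
  · simp at h2
  · exact (k1 (by omega)).elim
  · exact (k2 (by omega)).elim
  · exact (k3 (by omega)).elim
  · exact Or.inl ⟨rfl, rfl⟩
  · exact (k4 (by omega)).elim
  · exact (k4 (by omega)).elim
  · exact Or.inr ⟨rfl, rfl⟩
  · exact (k3 (by omega)).elim
  · exact (k2 (by omega)).elim
  · exact (k1 (by omega)).elim
  · simp at h2

/-- the permutation character -/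
theorem exists_perm : ∃ χ₁ χ₂ : IrrCharacter RuOrder.H, charDegree (χ₁ : RuOrder.H → ℂ) = 783 ∧
    charDegree (χ₂ : RuOrder.H → ℂ) = 3276 ∧ ∀ g : RuOrder.H,
      (Nat.card (MulAction.fixedBy (Fin 4060) g) : ℂ) = 1 + (χ₁ : RuOrder.H → ℂ) g + (χ₂ : RuOrder.H → ℂ) g := by
  classical
  have hfin : Finite RuOrder.H := Cfsg.Agent.H690.Spor.Ru.instFiniteH
  obtain ⟨R, hR⟩ := Cfsg.Agent.H690.Spor.Ru.r3
  obtain ⟨χ₁, χ₂, f, g, D, hf, hg, hπ, h1, h2, h3⟩ := hR.frame
  have hdf : charDegree (χ₁ : RuOrder.H → ℂ) = f := Cfsg.Agent.Blocks.Basic.charDegree_of_eq hf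
  have hdg : charDegree (χ₂ : RuOrder.H → ℂ) = g := Cfsg.Agent.Blocks.Basic.charDegree_of_eq hg
  rcases degrees h1 h2 h3 with ⟨rfl, rfl⟩ | ⟨rfl, rfl⟩
  · exact ⟨χ₁, χ₂, hdf, hdg, hπ⟩
  · exact ⟨χ₂, χ₁, hdg, hdf, fun g => by rw [hπ g]; ring⟩

theorem fixedBy_pow {G Ω : Type*} [Group G] [MulAction G Ω] {g : G} {k : ℕ} (h : k.Coprime (orderOf g)) :
    MulAction.fixedBy Ω (g ^ k) = MulAction.fixedBy Ω g := by
  have h1 : ∀ (a : G) (n : ℕ), MulAction.fixedBy Ω a ⊆ MulAction.fixedBy Ω (a ^ n) := by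
    intro a n p hp
    rw [MulAction.mem_fixedBy] at hp ⊢
    induction n with
    | zero => rw [pow_zero, one_smul]
    | succ n ih => rw [pow_succ, mul_smul, hp, ih]
  refine Set.Subset.antisymm ?_ (h1 g k)
  obtain ⟨m, hm⟩ := exists_pow_eq_self_of_coprime h
  intro p hp
  have h2 := h1 (g ^ k) m hp
  rwa [hm] at h2

theorem lin {G : Type u} [Group G] [Finite G] (hc : commutator G = ⊤) (χ : IrrCharacter G)
    (h : charDegree (χ : G → ℂ) = 1) (g : G) : (χ : G → ℂ) g = 1 := by
  have h1 := Cfsg.Agent.H597.Taketa.commutator_le_ker_of_linear χ.2 h g (hc ▸ mem_top g)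
  rw [h1, Cfsg.Agent.Blocks.Basic.irr_one_eq_charDegree χ.2, h, Nat.cast_one]

theorem perfect : commutator RuOrder.H = ⊤ := by
  have hs : IsSimpleGroup RuOrder.H := RuSimple.isSimpleGroup_H
  rcases (inferInstance : (commutator RuOrder.H).Normal).eq_bot_or_eq_top with h | h
  · exfalso
    have h1 : ∀ a b : RuOrder.H, a * b = b * a := by
      intro a b
      have h2 : ⁅a, b⁆ ∈ commutator RuOrder.H := commutator_mem_commutator (mem_top a) (mem_top b)
      rw [h, mem_bot, commutatorElement_eq_one_iff_mul_comm] at h2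
      exact h2
    have h2 : (centralizer ({X} : Set RuOrder.H)) = ⊤ := by
      rw [eq_top_iff]
      intro g _
      rw [mem_centralizer_singleton_iff]
      exact h1 _ _
    have h3 := RuX.card_cent
    rw [h2, card_top, RuOrder.card_H] at h3
    omega
  · exact h

/-- the hypotheses for the model -/
theorem exists_data : ∃ ψ ψ' : IrrCharacter RuOrder.H, Data X (wprod ml H436.RuCent.wA : RuOrder.H) Y ψ ψ' := by
  have hfin : Finite RuOrder.H := H436.TwoRu.finite_H
  obtain ⟨ψ, ψ', h1, h2, h3⟩ := exists_perm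
  refine ⟨ψ, ψ', ?_⟩
  refine
    { card := RuOrder.card_H
      lin := lin perfect
      elt := ⟨RuX.X_pow, RuX.conj5, RuX.card_cent, RuX.not_conj_inv⟩
      oy := H436.RuCent.orderA
      cy := ?_
      oz := H436.RuCent.orderB
      cz := ?_
      zz := RuX.conj2
      dψ := h1
      dψ' := h2
      sum := ?_
      fix := ?_ }
  · exact Nat.le_of_dvd (by norm_num) (H436.TwoRu.cent29 _ H436.RuCent.orderA)
  · exact Nat.le_of_dvd (by norm_num) (H436.TwoRu.cent13 _ H436.RuCent.orderB)
  · intro k hk g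
    have h4 := h3 g
    have h5 := h3 (g ^ k)
    rw [fixedBy_pow (hk.coprime_dvd_right (orderOf_dvd_natCard g)), h4] at h5
    linear_combination -h5
  · have h4 := h3 X
    rw [RuX.card_fix] at h4
    push_cast at h4
    linear_combination -h4

theorem rowA_model : RowA RuOrder.H := by
  obtain ⟨ψ, ψ', h⟩ := exists_data
  have hfin : Finite RuOrder.H := H436.TwoRu.finite_H
  exact h.rowA

/-- [row] Ru -/
theorem rowA {S : Type u} [Group S] (h : Cfsg.Spor.IsoRu S) : RowA S := by
  obtain ⟨e⟩ := h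
  have e' := (e.trans Cfsg.Agent.RuLat.Main.equiv).symm
  rcases rowA_model with h1 | h1
  · exact Or.inl (Cfsg.Agent.H714.K4.syl_congr e' h1)
  · exact Or.inr (h1.trans_eq (Cfsg.Agent.H645.K4.k0_congr e'))

end Cfsg.Agent.H536.K4.Ru
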