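import Cfsg.Agent.H536.K4.Ru
import Cfsg.Agent.H329.K4.SigCol
import Cfsg.Agent.H707.Odd.Mod
import Cfsg.Agent.H604.FD.Inner

/-!
# Five good characters of the Rudvalis group (helper536, row Ru of S4547)

`good5 : Spor.IsoRu S → Good5 S`. Suppose that there are only four good characters `1, ψ, c, d`, `ψ 1 = 783`.

* The column of the element `x` of order 16 restricted to the principal 13-block is orthogonal to the column of the
  element `z` of order 13; modulo 2 this says that an even number of the good characters belong to the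
  principal 13-block (`Data.parity13`). So exactly one of `c`, `d` does; both are therefore rational.
* The sum of the good characters is even at the elements of odd order. At `z` this says that `c z`, `d z` are odd, at the
  element `y` of order 29 that exactly one of the values `c y`, `d y` is `± 1` and the other one is `0`.
* There is no odd divisor `m > 1` of the order of the group with these residues modulo 13 and 29.
-/

set_option autoImplicit false
set_option linter.unusedSectionVars false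

open scoped ComplexConjugate
open Cfsg Cfsg.Agent.Characters.Core Cfsg.Agent.Blocks.Local Cfsg.Agent.H536.K4.Gauss
open Subgroup hiding one
open Cfsg.Agent.H618.Sigma Cfsg.Agent.H536.K4.RuAbs
open Cfsg.Agent.H601.K4 (Good Good5 SigFix OddIrr)

namespace Cfsg.Agent.H536.K4.RuGood

universe u
variable {G : Type u} [Group G] [Finite G] {x y z : G} {ψ ψ' c d : IrrCharacter G}

/-! ### the element of order 16 -/

omit [Finite G] in
theorem two_x (h : Elt x) : ∃ j : ℕ, orderOf x = 2 ^ j := by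
  have h2 : orderOf x ∣ 2 ^ 4 := orderOf_dvd_of_pow_eq_one (by rw [show 2 ^ 4 = 16 by norm_num]; exact h.pow)
  obtain ⟨k, -, hk⟩ := (Nat.dvd_prime_pow Nat.prime_two).1 h2
  exact ⟨k, hk⟩

theorem twoC (h : Elt x) : Cfsg.Agent.H601.OddDeg.TwoC G := by
  refine ⟨zpowers x, ?_, ?_⟩
  · obtain ⟨j, hj⟩ := two_x h
    exact IsPGroup.of_card (n := j) (by rw [Nat.card_zpowers, hj])
  · have h1 : centralizer ((zpowers x : Subgroup G) : Set G) = centralizer ({x} : Set G) := by
      rw [zpowers_eq_closure, centralizer_closure]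
    rw [h1]
    exact IsPGroup.of_card (n := 4) (by rw [h.cent]; norm_num)

theorem im_of_sig (h : Elt x) {k : ℕ} (hk : Cube G k) {χ : IrrCharacter G} (hχ : sig hk χ = χ) : im x χ = 0 := by
  have h1 := (sig_eq_iff hk χ).1 hχ x
  rw [hk.two x (two_x h)] at h1
  have h2 : x ^ 3 = (x ^ 13)⁻¹ := by
    rw [eq_inv_iff_mul_eq_one, ← pow_add]
    exact h.pow
  rw [h2, apply_inv, apply_conj χ.2 h.conj13] at h1
  have h3 : ((χ : G → ℂ) x).im = 0 := Complex.conj_eq_iff_im.1 h1
  unfold im
  rw [h3, Int.floor_zero]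

/-! ### Galois conjugates -/

theorem centralizer_pow' {m : ℕ} (hm : m.Coprime (Nat.card G)) (g : G) :
    centralizer ({g ^ m} : Set G) = centralizer ({g} : Set G) := by
  obtain ⟨j, hj⟩ := exists_pow_eq_self_of_coprime (hm.coprime_dvd_right (orderOf_dvd_natCard g))
  ext a
  rw [mem_centralizer_singleton_iff, mem_centralizer_singleton_iff]
  constructor
  · intro ha
    have h1 : Commute (g ^ m) a := ha.symm
    have h2 := h1.pow_left j
    rw [hj] at h2
    exact h2.symm.eq
  · intro ha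
    have h1 : Commute g a := ha.symm
    exact (h1.pow_left m).symm.eq

theorem pw_mem_principalBlock {m : ℕ} (hm : m.Coprime (Nat.card G)) {M : Ideal AlgInt} {χ : IrrCharacter G}
    (hχ : χ ∈ principalBlock M G) : pw hm χ ∈ principalBlock M G := by
  intro g
  have h1 := hχ (g ^ m)
  have h2 : centralChar (fun _ : G => (1 : ℂ)) (g ^ m) - centralChar (χ : G → ℂ) (g ^ m) =
      centralChar (fun _ : G => (1 : ℂ)) g - centralChar (pw hm χ : G → ℂ) g := by
    unfold centralChar
    rw [centralizer_pow' hm, pw_apply, pw_apply, one_pow]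
  rwa [h2] at h1

theorem good_pw (hC : Cfsg.Agent.H601.OddDeg.TwoC G) {m : ℕ} (hm : m.Coprime (Nat.card G)) {χ : IrrCharacter G}
    (h : Good (χ : G → ℂ)) : Good (pw hm χ : G → ℂ) := by
  refine Cfsg.Agent.H329.K4.good_of hC ⟨(pw hm χ).2, ?_⟩ ?_
  · rw [charDegree_pw]
    exact h.odd.2
  · intro k h2 h3 g
    rw [pw_apply, pw_apply, ← pow_mul, mul_comm, pow_mul]
    exact h.sig k h2 h3 (g ^ m)

theorem good_iff (hC : Cfsg.Agent.H601.OddDeg.TwoC G) {k : ℕ} (hk : Cube G k) (χ : IrrCharacter G) :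
    Good (χ : G → ℂ) ↔ ¬ 2 ∣ charDegree (χ : G → ℂ) ∧ sig hk χ = χ := by
  constructor
  · intro h
    exact ⟨h.odd.2, (sig_eq_iff hk χ).2 fun g => h.sig k hk.two hk.odd g⟩
  · rintro ⟨h1, h2⟩
    exact Cfsg.Agent.H329.K4.good_of hC ⟨χ.2, h1⟩ (Cfsg.Agent.H329.K4.sigFix_of_cube hk ((sig_eq_iff hk χ).1 h2))

theorem sig_mem_iff {k : ℕ} (hk : Cube G k) {M : Ideal AlgInt} (χ : IrrCharacter G) :
    sig hk χ ∈ principalBlock M G ↔ χ ∈ principalBlock M G := by
  refine ⟨fun h => ?_, fun h => sig_mem_principalBlock hk h⟩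
  obtain ⟨n, hn⟩ := hk.exists_iter
  have h1 : ∀ m : ℕ, (sig hk)^[m] (sig hk χ) ∈ principalBlock M G := by
    intro m
    induction m with
    | zero => exact h
    | succ m ih =>
      rw [Function.iterate_succ_apply']
      exact sig_mem_principalBlock hk ih
  have h2 := h1 (2 ^ n - 1)
  rw [← Function.iterate_succ_apply, Nat.succ_eq_add_one, Nat.sub_add_cancel Nat.one_le_two_pow] at h2
  have h3 : (sig hk)^[2 ^ n] χ = χ := Subtype.ext (funext fun g => by rw [sig_iter, hn])
  rwa [h3] at h2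

/-! ### integral values -/

theorem modEq_of_val {χ : IrrCharacter G} {p : ℕ} [hp : Fact p.Prime] {t : G} (ht : orderOf t = p)
    (hv : (χ : G → ℂ) t = (vl χ t : ℂ)) : (p : ℤ) ∣ vl χ t - charDegree (χ : G → ℂ) := by
  obtain ⟨M, hM⟩ := Cfsg.Agent.Blocks.ExistsModular.exists_isPModular hp.out
  have hMp : M.IsPrime := hM.2.1.isPrime
  have h1 : IsPPart p t t := ⟨1, mul_one t, Commute.one_right t, ⟨1, by rw [ht, pow_one]⟩, by
    rw [orderOf_one]; exact hp.out.one_lt.ne' ∘ Nat.dvd_one.1⟩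
  have h2 := Cfsg.Agent.CharactersDeep.ModCongr.memLocalIdeal_character_sub hM χ.2 t t h1
  rw [inv_mul_cancel, hv, Cfsg.Agent.Blocks.Basic.irr_one_eq_charDegree χ.2] at h2
  have h3 : (((vl χ t : ℤ) : ℂ) - ((charDegree (χ : G → ℂ) : ℕ) : ℂ)) = ((vl χ t - charDegree (χ : G → ℂ) : ℤ) : ℂ) := by
    push_cast
    rfl
  rw [h3, memLocalIdeal_intCast_iff hM] at h2
  exact h2

theorem sum_sq_le' (S : Finset (IrrCharacter G)) (t : G) (hS : ∀ χ ∈ S, (χ : G → ℂ) t = (vl χ t : ℂ)) :
    ∑ χ ∈ S, vl χ t ^ 2 ≤ (Nat.card (centralizer ({t} : Set G)) : ℤ) := by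
  classical
  have := Fintype.ofFinite G
  have : Finite (IrrCharacter G) := finite_irr
  have := Fintype.ofFinite (IrrCharacter G)
  have h1 := S0145.sum_irr_mul_conj t t
  rw [if_pos (IsConj.refl t)] at h1
  have h2 : ∑ χ : IrrCharacter G, ‖(χ : G → ℂ) t‖ ^ 2 = (Nat.card (centralizer ({t} : Set G)) : ℝ) := by
    have h3 : ∀ χ : IrrCharacter G, (χ : G → ℂ) t * conj ((χ : G → ℂ) t) = ((‖(χ : G → ℂ) t‖ ^ 2 : ℝ) : ℂ) := by
      intro χ
      rw [Complex.mul_conj, Complex.normSq_eq_norm_sq]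
    rw [Finset.sum_congr rfl fun χ _ => h3 χ, ← Complex.ofReal_sum] at h1
    exact_mod_cast h1
  have h3 : ∑ χ ∈ S, ((vl χ t : ℤ) : ℝ) ^ 2 ≤ ∑ χ : IrrCharacter G, ‖(χ : G → ℂ) t‖ ^ 2 := by
    refine le_trans (Finset.sum_le_sum fun χ hχ => ?_)
      (Finset.sum_le_sum_of_subset_of_nonneg (Finset.subset_univ S) fun _ _ _ => sq_nonneg _)
    rw [hS χ hχ, Complex.norm_intCast, sq_abs]
  rw [h2] at h3
  exact_mod_cast h3

theorem two_pow_mod : ∀ r < 13, r ≠ 0 → ∃ j < 12, 2 ^ j % 13 = r := by decide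

/-- all values at the element of order 13 are integers -/
theorem val13 (D : Data x y z ψ ψ') (χ : IrrCharacter G) : (χ : G → ℂ) z = (vl χ z : ℂ) := by
  have hcj : ∀ j : ℕ, IsConj z (z ^ 2 ^ j) := by
    intro j
    induction j with
    | zero => rw [pow_zero, pow_one]
    | succ j ih =>
      have h1 := isConj_pow D.zz (2 ^ j)
      rw [← pow_mul, mul_comm, ← pow_succ] at h1
      exact ih.trans h1
  have key : ∀ m : ℕ, m.Coprime (Nat.card G) → (χ : G → ℂ) (z ^ m) = (χ : G → ℂ) z := by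
    intro m hm
    have h13 : ¬ 13 ∣ m := by
      intro h
      have h1 : 13 ∣ Nat.card G := by rw [D.card]; norm_num
      have h2 := Nat.dvd_gcd h h1
      rw [hm] at h2
      omega
    obtain ⟨j, -, hj⟩ := two_pow_mod (m % 13) (Nat.mod_lt _ (by norm_num)) fun h => h13 (Nat.dvd_of_mod_eq_zero h)
    have h1 : z ^ m = z ^ 2 ^ j := by
      rw [pow_eq_pow_iff_modEq, D.oz]
      exact hj.symm
    rw [h1]
    exact apply_conj χ.2 (hcj j)
  obtain ⟨k, hk⟩ := Cfsg.Agent.Characters.GaloisBasic.exists_int_of_rat (isIrr_isCharacter χ.2) z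
    ((Cfsg.Agent.Characters.GaloisBasic.exists_rat_iff (isIrr_isCharacter χ.2) z).2 fun m hm => key m hm)
  unfold vl
  rw [hk]
  simp

theorem sq13 (D : Data x y z ψ ψ') (χ : IrrCharacter G) : vl χ z ^ 2 ≤ 52 := by
  have h1 := sum_sq_le' {χ} z fun φ _ => val13 D φ
  rw [Finset.sum_singleton] at h1
  have h2 : (Nat.card (centralizer ({z} : Set G)) : ℤ) ≤ 52 := by exact_mod_cast D.cz
  linarith

theorem mod13 (D : Data x y z ψ ψ') (χ : IrrCharacter G) : (13 : ℤ) ∣ vl χ z - charDegree (χ : G → ℂ) := by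
  have hf : Fact (Nat.Prime 13) := ⟨by norm_num⟩
  exact_mod_cast modEq_of_val D.oz (val13 D χ)

/-- the members of the principal 13-block -/
theorem unit13 (D : Data x y z ψ ψ') {χ : IrrCharacter G}
    (h : (charDegree (χ : G → ℂ) : ℤ) % 13 = 1 ∨ (charDegree (χ : G → ℂ) : ℤ) % 13 = 12) :
    vl χ z = 1 ∨ vl χ z = -1 := by
  have h1 := sq13 D χ
  have h2 := mod13 D χ
  have h8 : -8 < vl χ z := by nlinarith
  have h9 : vl χ z < 8 := by nlinarith
  omega

/-! ### the parity in the principal 13-block -/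

/-- **An even number of the fixed characters of odd degree are in the principal 13-block.** -/
theorem parity13 (D : Data x y z ψ ψ') {k : ℕ} (hk : Cube G k) (s : Finset (IrrCharacter G))
    (hs : ∀ χ : IrrCharacter G, χ ∈ s ↔ ¬ 2 ∣ charDegree (χ : G → ℂ) ∧ sig hk χ = χ) {M : Ideal AlgInt}
    (hM : IsPModular 13 M)
    (hB : ∀ χ ∈ principalBlock M G, (charDegree (χ : G → ℂ) : ℤ) % 13 = 1 ∨ (charDegree (χ : G → ℂ) : ℤ) % 13 = 12)
    [DecidablePred (· ∈ principalBlock M G)] :
    2 ∣ (s.filter (· ∈ principalBlock M G)).card := by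
  classical
  have hf13 : Fact (Nat.Prime 13) := ⟨by norm_num⟩
  have hMp : M.IsPrime := hM.2.1.isPrime
  have hfin : Finite (IrrCharacter G) := finite_irr
  have := Fintype.ofFinite (IrrCharacter G)
  have hx : ¬ 13 ∣ orderOf x := by
    intro h
    have h4 := h.trans (orderOf_dvd_of_pow_eq_one D.elt.pow)
    revert h4
    norm_num
  have h4 := D.elt.block_col hM (B := principalBlock M G) ⟨one, rfl⟩ (y := z) hx (by rw [D.oz])
  rw [finsum_mem_eq_finite_toFinset_sum _ (Set.toFinite _)] at h4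
  have h5 : ∑ χ : IrrCharacter G, (if χ ∈ principalBlock M G then re x χ * vl χ z else 0) = 0 := by
    have h6 : ((∑ χ : IrrCharacter G, (if χ ∈ principalBlock M G then re x χ * vl χ z else 0) : ℤ) : ℂ) = 0 := by
      refine Eq.trans ?_ h4
      rw [Int.cast_sum]
      have h7 : (Set.toFinite (principalBlock M G)).toFinset = Finset.univ.filter (· ∈ principalBlock M G) := by
        ext χ
        simp
      rw [h7, Finset.sum_filter]
      refine Finset.sum_congr rfl fun χ _ => ?_
      split_ifs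
      · rw [Int.cast_mul, val13 D χ]
      · rw [Int.cast_zero]
    exact_mod_cast h6
  -- modulo 2
  obtain ⟨f, hf⟩ : ∃ f : IrrCharacter G → ZMod 2, ∀ χ, f χ = if χ ∈ principalBlock M G then
      ((re x χ * vl χ z : ℤ) : ZMod 2) else 0 := ⟨_, fun _ => rfl⟩
  have h6 : ∑ χ, f χ = 0 := by
    have h7 := congrArg (fun n : ℤ => (n : ZMod 2)) h5
    simp only [Int.cast_sum, Int.cast_zero] at h7
    rw [← h7]
    refine Finset.sum_congr rfl fun χ _ => ?_
    rw [hf]
    split_ifs
    · rfl
    · rw [Int.cast_zero]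
  obtain ⟨n, hn⟩ := hk.exists_iter
  have hit : ∀ ω : IrrCharacter G, (sig hk)^[2 ^ n] ω = ω := fun ω =>
    Subtype.ext (funext fun g => by rw [sig_iter, hn])
  have hodd : Odd (orderOf z) := by rw [D.oz]; decide
  have hinv : ∀ ω : IrrCharacter G, f (sig hk ω) = f ω := by
    intro ω
    have e1 : re x (sig hk ω) = re x ω := D.elt.re_pw ω hk.coprime
    have e2 : vl (sig hk ω) z = vl ω z := by
      unfold vl
      rw [sig_odd hk ω hodd]
    rw [hf, hf, e1, e2]
    by_cases hω : ω ∈ principalBlock M G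
    · rw [if_pos hω, if_pos ((sig_mem_iff hk ω).2 hω)]
    · rw [if_neg hω, if_neg fun h => hω ((sig_mem_iff hk ω).1 h)]
  have h7 := sum_fixed_perm (sig hk) n hit f hinv
  rw [h6] at h7
  have hsub : s.filter (· ∈ principalBlock M G) ⊆ Finset.univ.filter fun ω => sig hk ω = ω := by
    intro ω hω
    rw [Finset.mem_filter] at hω
    exact Finset.mem_filter.2 ⟨Finset.mem_univ _, ((hs ω).1 hω.1).2⟩
  have hpar : ∀ ω : IrrCharacter G, sig hk ω = ω → (2 : ℤ) ∣ re x ω - charDegree (ω : G → ℂ) := by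
    intro ω hω
    have h8 := D.elt.parity ω
    rw [im_of_sig D.elt hk hω, add_zero] at h8
    exact h8
  rw [← Finset.sum_subset hsub] at h7
  · rw [Finset.sum_congr rfl (g := fun _ => (1 : ZMod 2))] at h7
    · rw [Finset.sum_const, nsmul_eq_mul, mul_one] at h7
      exact (ZMod.natCast_eq_zero_iff _ 2).1 h7.symm
    · intro ω hω
      rw [Finset.mem_filter] at hω
      have h8 := (hs ω).1 hω.1
      have h9 := hpar ω h8.2
      have h10 := unit13 D (hB ω hω.2)
      rw [hf, if_pos hω.2]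
      have h11 : ∃ m : ℤ, re x ω * vl ω z = 2 * m + 1 := by
        have h12 : re x ω % 2 = 1 := by
          have := h8.1
          omega
        rcases h10 with h10 | h10 <;> rw [h10]
        · exact ⟨re x ω / 2, by omega⟩
        · exact ⟨(-re x ω) / 2, by omega⟩
      obtain ⟨m, hm⟩ := h11
      rw [hm]
      push_cast
      rw [show (2 : ZMod 2) = 0 from rfl, zero_mul, zero_add]
  · intro ω hω hω2
    have h8 := (Finset.mem_filter.1 hω).2
    rw [hf]
    split_ifs with h9
    · have h10 : 2 ∣ charDegree (ω : G → ℂ) := by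
        by_contra h11
        exact hω2 (Finset.mem_filter.2 ⟨(hs ω).2 ⟨h11, h8⟩, h9⟩)
      have h11 := hpar ω h8
      have h12 : (2 : ℤ) ∣ re x ω := by omega
      obtain ⟨m, hm⟩ := h12
      rw [hm]
      push_cast
      rw [show (2 : ZMod 2) = 0 from rfl, zero_mul, zero_mul]
    · rfl

/-! ### the values of `ψ` -/

theorem ψ_z (D : Data x y z ψ ψ') : vl ψ z = 3 := by
  have h1 := sq13 D ψ
  have h2 := mod13 D ψ
  rw [D.dψ] at h2
  have h8 : -8 < vl ψ z := by nlinarith
  have h9 : vl ψ z < 8 := by nlinarith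
  push_cast at h2
  omega

theorem small29 (D : Data x y z ψ ψ') {χ : IrrCharacter G} (hχ : Fx χ) (h1 : (one : IrrCharacter G) ≠ χ) :
    vl χ y ^ 2 ≤ 28 := by
  classical
  have h2 := sum_sq_le' ({(one : IrrCharacter G), χ} : Finset (IrrCharacter G)) y (by
    intro φ hφ
    rw [Finset.mem_insert, Finset.mem_singleton] at hφ
    rcases hφ with rfl | rfl
    · exact fx_one.val y
    · exact hχ.val y)
  rw [Finset.sum_insert (by simpa using h1), Finset.sum_singleton, vl_one] at h2
  have h3 : (Nat.card (centralizer ({y} : Set G)) : ℤ) ≤ 29 := by exact_mod_cast D.cy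
  linarith

theorem one_ne_ψ (D : Data x y z ψ ψ') : (one : IrrCharacter G) ≠ ψ := by
  intro h
  have h2 := charDegree_one (G := G)
  rw [h, D.dψ] at h2
  omega

theorem ψ_y (D : Data x y z ψ ψ') : vl ψ y = 0 := by
  have hf : Fact (Nat.Prime 29) := ⟨by norm_num⟩
  have h1 := small29 D D.fx (one_ne_ψ D)
  have h2 := D.fx.modEq D.oy
  rw [D.dψ] at h2
  have h8 : -6 < vl ψ y := by nlinarith
  have h9 : vl ψ y < 6 := by nlinarith
  push_cast at h2
  omega

/-! ### the element of order 29 -/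

/-- the degrees modulo 29 -/
theorem mod29 (D : Data x y z ψ ψ') {χ : IrrCharacter G} (hχ : Fx χ) (h1 : (one : IrrCharacter G) ≠ χ) :
    vl χ y = 0 ∨ ((vl χ y = 1 ∨ vl χ y = -1) ∧
      ((charDegree (χ : G → ℂ)) % 29 = 1 ∨ (charDegree (χ : G → ℂ)) % 29 = 28)) := by
  have hf : Fact (Nat.Prime 29) := ⟨by norm_num⟩
  have h2 := small29 D hχ h1
  have h3 := hχ.modEq D.oy
  have h8 : -6 < vl χ y := by nlinarith
  have h9 : vl χ y < 6 := by nlinarith
  have hfac : (Nat.card G).factorization 29 = 1 := by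
    have h1 : 29 ∣ Nat.card G := by rw [D.card]; norm_num
    have h2 := (hf.out.dvd_iff_one_le_factorization Nat.card_pos.ne').1 h1
    have h3 : ¬ 2 ≤ (Nat.card G).factorization 29 := fun h3 => by
      have h4 := (hf.out.pow_dvd_iff_le_factorization Nat.card_pos.ne').2 h3
      rw [D.card] at h4
      revert h4
      norm_num
    omega
  let P : Sylow 29 G := Sylow.ofCard (zpowers y) (by rw [Nat.card_zpowers, D.oy, hfac, pow_one])
  have hP : Nat.card P = 29 := by
    change Nat.card (zpowers y) = 29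
    rw [Nat.card_zpowers, D.oy]
  have hC : Nat.card (centralizer ((P : Subgroup G) : Set G)) = 29 := by
    have h5 : centralizer ((P : Subgroup G) : Set G) = centralizer ({y} : Set G) := by
      change centralizer ((zpowers y : Subgroup G) : Set G) = _
      rw [zpowers_eq_closure, centralizer_closure]
    rw [h5]
    have h6 : y ∈ centralizer ({y} : Set G) := mem_centralizer_singleton_iff.2 rfl
    have h7 := Subgroup.orderOf_dvd_natCard _ h6
    rw [D.oy] at h7
    exact le_antisymm D.cy (Nat.le_of_dvd Nat.card_pos h7)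
  have he : (centralizer ((P : Subgroup G) : Set G)).relIndex (normalizer ((P : Subgroup G) : Set G)) = 14 := by
    rw [Cfsg.Agent.H604.FD.Inner.relIndex_eq P hP hC, D.card]
  have h4 := Cfsg.Agent.H707.Odd.degree_mod (by norm_num) P hP hC he χ
    (Cfsg.Agent.Blocks.Basic.irr_one_eq_charDegree χ.2)
  simp only [Int.ModEq] at h4
  push_cast at h3 h4
  omega

/-! ### four good characters -/

/-- exactly four good characters -/
structure Four (x y z : G) (ψ ψ' c d : IrrCharacter G) : Prop where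
  D : Data x y z ψ ψ'
  mem : ∀ χ : IrrCharacter G, Good (χ : G → ℂ) ↔ χ = one ∨ χ = ψ ∨ χ = c ∨ χ = d
  h1c : (one : IrrCharacter G) ≠ c
  h1d : (one : IrrCharacter G) ≠ d
  hψc : ψ ≠ c
  hψd : ψ ≠ d
  hcd : c ≠ d

theorem Four.symm (F : Four x y z ψ ψ' c d) : Four x y z ψ ψ' d c where
  D := F.D
  mem χ := by rw [F.mem]; tauto
  h1c := F.h1d
  h1d := F.h1c
  hψc := F.hψd
  hψd := F.hψc
  hcd := F.hcd.symm

/-- the parity of the sum of the good characters -/
theorem Four.not_odd (F : Four x y z ψ ψ' c d) {t : G} (ht : Odd (orderOf t)) {n : ℤ}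
    (h : 1 + (ψ : G → ℂ) t + (c : G → ℂ) t + (d : G → ℂ) t = n) : ¬ Odd n := by
  classical
  intro hn
  have hC := twoC F.D.elt
  have hev : Even (Nat.card G) := by rw [F.D.card]; decide
  obtain ⟨s, hs⟩ : ∃ s : Finset (G → ℂ), s = {((one : IrrCharacter G) : G → ℂ), (ψ : G → ℂ), (c : G → ℂ),
    (d : G → ℂ)} := ⟨_, rfl⟩
  have hmem : ∀ φ : G → ℂ, φ ∈ s ↔ φ = ((one : IrrCharacter G) : G → ℂ) ∨ φ = (ψ : G → ℂ) ∨ φ = (c : G → ℂ) ∨ φ = (d : G → ℂ) := by
    intro φ
    rw [hs]
    simp only [Finset.mem_insert, Finset.mem_singleton]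
  have hgood : ∀ φ ∈ s, Good φ := by
    intro φ hφ
    rcases (hmem φ).1 hφ with h1 | h1 | h1 | h1 <;> rw [h1]
    · exact (F.mem one).2 (Or.inl rfl)
    · exact (F.mem ψ).2 (Or.inr (Or.inl rfl))
    · exact (F.mem c).2 (Or.inr (Or.inr (Or.inl rfl)))
    · exact (F.mem d).2 (Or.inr (Or.inr (Or.inr rfl)))
  have hne : ∀ {a b : IrrCharacter G}, a ≠ b → (a : G → ℂ) ≠ (b : G → ℂ) := fun h h' => h (Subtype.ext h')
  obtain ⟨φ, hφ, hφs⟩ := Cfsg.Agent.H329.K4.exists_new hC hev s hgood ht hn (by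
    rw [hs, Finset.sum_insert, Finset.sum_insert, Finset.sum_insert, Finset.sum_singleton, ← h,
      show ((one : IrrCharacter G) : G → ℂ) t = 1 from rfl]
    · ring
    · simpa using hne F.hcd
    · simpa using ⟨hne F.hψc, hne F.hψd⟩
    · simpa using ⟨hne (one_ne_ψ F.D), hne F.h1c, hne F.h1d⟩)
  apply hφs
  rw [hmem]
  rcases (F.mem ⟨φ, hφ.odd.1⟩).1 hφ with h1 | h1 | h1 | h1
  · exact Or.inl (congrArg Subtype.val h1)
  · exact Or.inr (Or.inl (congrArg Subtype.val h1))
  · exact Or.inr (Or.inr (Or.inl (congrArg Subtype.val h1)))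
  · exact Or.inr (Or.inr (Or.inr (congrArg Subtype.val h1)))

/-- the finite check -/
theorem fin_check : (RuSearch.L.all fun m => !((m % 29 == 1 || m % 29 == 28) &&
    ((m % 13 == 1 || m % 13 == 3 || m % 13 == 5 || m % 13 == 8 || m % 13 == 10 || m % 13 == 12) && m != 1))) = true := by
  decide +kernel

theorem eq_one_of {m : ℕ} (h : m ∣ 145926144000) (h2 : ¬ 2 ∣ m) (h29 : m % 29 = 1 ∨ m % 29 = 28)
    (h13 : m % 13 = 1 ∨ m % 13 = 3 ∨ m % 13 = 5 ∨ m % 13 = 8 ∨ m % 13 = 10 ∨ m % 13 = 12) : m = 1 := by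
  have h3 : m ∣ 8906625 := by
    have h4 : m ∣ 2 ^ 14 * 8906625 := by simpa using h
    refine Nat.Coprime.dvd_of_dvd_mul_left ?_ h4
    exact Nat.Coprime.pow_right 14 ((Nat.Prime.coprime_iff_not_dvd Nat.prime_two).2 h2).symm
  have h5 := (List.all_eq_true.1 fin_check) m (RuSearch.mem_L h3)
  by_contra h1
  simp only [Bool.not_eq_true', Bool.and_eq_false_iff, Bool.or_eq_false_iff, beq_eq_false_iff_ne, bne_eq_false_iff_eq] at h5
  omega

theorem Four.absurd (F : Four x y z ψ ψ' c d) {M : Ideal AlgInt}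
    (hB : ∀ χ ∈ principalBlock M G, (charDegree (χ : G → ℂ) : ℤ) % 13 = 1 ∨ (charDegree (χ : G → ℂ) : ℤ) % 13 = 12)
    (hc : c ∈ principalBlock M G) (hd : d ∉ principalBlock M G) : False := by
  classical
  have D := F.D
  have hC := twoC D.elt
  have gc : Good (c : G → ℂ) := (F.mem c).2 (by simp)
  have gd : Good (d : G → ℂ) := (F.mem d).2 (by simp)
  have f1 : ∀ (m : ℕ) (hm : m.Coprime (Nat.card G)), pw hm (one : IrrCharacter G) = one := fx_iff.1 fx_one
  have fψ : ∀ (m : ℕ) (hm : m.Coprime (Nat.card G)), pw hm ψ = ψ := fx_iff.1 D.fx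
  have fc : Fx c := by
    rw [fx_iff]
    intro m hm
    have hinj := pw_injective (G := G) hm
    rcases (F.mem _).1 (good_pw hC hm gc) with h | h | h | h
    · exact (F.h1c (hinj ((f1 m hm).trans h.symm))).elim
    · exact (F.hψc (hinj ((fψ m hm).trans h.symm))).elim
    · exact h
    · exact (hd (h ▸ pw_mem_principalBlock hm hc)).elim
  have fd : Fx d := by
    rw [fx_iff]
    intro m hm
    have hinj := pw_injective (G := G) hm
    rcases (F.mem _).1 (good_pw hC hm gd) with h | h | h | h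
    · exact (F.h1d (hinj ((f1 m hm).trans h.symm))).elim
    · exact (F.hψd (hinj ((fψ m hm).trans h.symm))).elim
    · exact (F.hcd (hinj ((fx_iff.1 fc m hm).trans h.symm))).elim
    · exact h
  -- the element of order 13
  have vc := unit13 D (hB c hc)
  have mc := mod13 D c
  have md := mod13 D d
  have p13 := F.not_odd (t := z) (n := 1 + vl ψ z + vl c z + vl d z) (by rw [D.oz]; decide) (by
    rw [val13 D ψ, val13 D c, val13 D d]
    push_cast
    ring)
  rw [Int.not_odd_iff_even, Int.even_iff, ψ_z D] at p13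
  have s13 := sum_sq_le' ({one, ψ, c, d} : Finset (IrrCharacter G)) z fun φ _ => val13 D φ
  rw [Finset.sum_insert, Finset.sum_insert, Finset.sum_insert, Finset.sum_singleton, vl_one, ψ_z D] at s13
  rotate_left
  · simpa using F.hcd
  · simpa using ⟨F.hψc, F.hψd⟩
  · simpa using ⟨one_ne_ψ D, F.h1c, F.h1d⟩
  have cz : (Nat.card (centralizer ({z} : Set G)) : ℤ) ≤ 52 := by exact_mod_cast D.cz
  have q1 : -7 < vl d z := by nlinarith [sq_nonneg (vl c z)]
  have q2 : vl d z < 7 := by nlinarith [sq_nonneg (vl c z)]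
  have rc : charDegree (c : G → ℂ) % 13 = 1 ∨ charDegree (c : G → ℂ) % 13 = 3 ∨ charDegree (c : G → ℂ) % 13 = 5 ∨
      charDegree (c : G → ℂ) % 13 = 8 ∨ charDegree (c : G → ℂ) % 13 = 10 ∨ charDegree (c : G → ℂ) % 13 = 12 := by
    clear q1 q2 cz s13 p13 md
    rcases vc with h | h <;> rw [h] at mc <;> omega
  have rd : charDegree (d : G → ℂ) % 13 = 1 ∨ charDegree (d : G → ℂ) % 13 = 3 ∨ charDegree (d : G → ℂ) % 13 = 5 ∨
      charDegree (d : G → ℂ) % 13 = 8 ∨ charDegree (d : G → ℂ) % 13 = 10 ∨ charDegree (d : G → ℂ) % 13 = 12 := by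
    have vd : vl d z = 1 ∨ vl d z = 3 ∨ vl d z = 5 ∨ vl d z = -1 ∨ vl d z = -3 ∨ vl d z = -5 := by
      clear cz s13 md mc
      rcases vc with h | h <;> rw [h] at p13 <;> omega
    clear q1 q2 cz s13 p13 mc
    rcases vd with h | h | h | h | h | h <;> rw [h] at md <;> omega
  -- the element of order 29
  have wc := mod29 D fc F.h1c
  have wd := mod29 D fd F.h1d
  have p29 := F.not_odd (t := y) (n := 1 + vl ψ y + vl c y + vl d y) (by rw [D.oy]; decide) (by
    rw [D.fx.val y, fc.val y, fd.val y]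
    push_cast
    ring)
  rw [Int.not_odd_iff_even, Int.even_iff, ψ_y D] at p29
  have dv : ∀ χ : IrrCharacter G, charDegree (χ : G → ℂ) ∣ 145926144000 := by
    intro χ
    rw [← D.card]
    exact Cfsg.Agent.Blocks.CyclicUpper.charDegree_dvd χ.2
  have one_of : ∀ χ : IrrCharacter G, charDegree (χ : G → ℂ) = 1 → one = χ := fun χ hχ =>
    Subtype.ext (funext fun g => (D.lin χ hχ g).symm)
  have key : (charDegree (c : G → ℂ) % 29 = 1 ∨ charDegree (c : G → ℂ) % 29 = 28) ∨
      (charDegree (d : G → ℂ) % 29 = 1 ∨ charDegree (d : G → ℂ) % 29 = 28) := by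
    rcases wc with h1 | ⟨-, h1⟩
    · rcases wd with h2 | ⟨-, h2⟩
      · rw [h1, h2] at p29
        omega
      · exact Or.inr h2
    · exact Or.inl h1
  rcases key with h | h
  · exact F.h1c (one_of c (eq_one_of (dv c) gc.odd.2 h rc))
  · exact F.h1d (one_of d (eq_one_of (dv d) gd.odd.2 h rd))

/-- **Five good characters.** -/
theorem good5_of_data (D : Data x y z ψ ψ') : Good5 G := by
  classical
  by_contra h5
  have hC := twoC D.elt
  have hev : Even (Nat.card G) := by rw [D.card]; decide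
  obtain ⟨k, hk⟩ := Cfsg.Agent.H329.K4.exists_cube G
  have hne : ∀ {a b : IrrCharacter G}, a ≠ b → (a : G → ℂ) ≠ (b : G → ℂ) := fun h h' => h (Subtype.ext h')
  have g1 : Good ((one : IrrCharacter G) : G → ℂ) := Cfsg.Agent.H329.K4.good_one hC
  have gψ : Good (ψ : G → ℂ) := by
    refine Cfsg.Agent.H329.K4.good_of hC ⟨ψ.2, by rw [D.dψ]; norm_num⟩ ?_
    exact SigFix.of_pow fun m hm g => D.fx m hm g
  -- the third one
  obtain ⟨c', hc', hcs⟩ := Cfsg.Agent.H329.K4.exists_new hC hev {((one : IrrCharacter G) : G → ℂ), (ψ : G → ℂ)}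
    (by
      intro φ hφ
      rw [Finset.mem_insert, Finset.mem_singleton] at hφ
      rcases hφ with rfl | rfl
      · exact g1
      · exact gψ) (t := y) (by rw [D.oy]; decide) (n := 1) (by decide) (by
      rw [Finset.sum_insert (by simpa using hne (one_ne_ψ D)), Finset.sum_singleton, D.fx.val y, ψ_y D,
        show ((one : IrrCharacter G) : G → ℂ) y = 1 from rfl]
      norm_num)
  obtain ⟨c, hcc⟩ : ∃ c : IrrCharacter G, (c : G → ℂ) = c' := ⟨⟨c', hc'.odd.1⟩, rfl⟩
  rw [← hcc] at hc' hcs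
  rw [Finset.mem_insert, Finset.mem_singleton, not_or] at hcs
  have h1c : (one : IrrCharacter G) ≠ c := fun h => hcs.1 (by rw [h])
  have hψc : ψ ≠ c := fun h => hcs.2 (by rw [h])
  -- the fourth one
  obtain ⟨d', hd', hds⟩ := Cfsg.Agent.H329.K4.exists_new hC hev
    {((one : IrrCharacter G) : G → ℂ), (ψ : G → ℂ), (c : G → ℂ)}
    (by
      intro φ hφ
      rw [Finset.mem_insert, Finset.mem_insert, Finset.mem_singleton] at hφ
      rcases hφ with rfl | rfl | rfl
      · exact g1
      · exact gψ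
      · exact hc') (t := 1) (by rw [orderOf_one]; decide) (n := 784 + charDegree (c : G → ℂ)) (by
        have h2 := hc'.odd.2
        rw [Int.odd_iff]
        omega) (by
      rw [Finset.sum_insert (by simpa using ⟨hne (one_ne_ψ D), hne h1c⟩),
        Finset.sum_insert (by simpa using hne hψc), Finset.sum_singleton,
        Cfsg.Agent.Blocks.Basic.irr_one_eq_charDegree ψ.2, Cfsg.Agent.Blocks.Basic.irr_one_eq_charDegree c.2, D.dψ,
        show ((one : IrrCharacter G) : G → ℂ) 1 = 1 from rfl]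
      push_cast
      ring)
  obtain ⟨d, hdd⟩ : ∃ d : IrrCharacter G, (d : G → ℂ) = d' := ⟨⟨d', hd'.odd.1⟩, rfl⟩
  rw [← hdd] at hd' hds
  rw [Finset.mem_insert, Finset.mem_insert, Finset.mem_singleton, not_or, not_or] at hds
  have h1d : (one : IrrCharacter G) ≠ d := fun h => hds.1 (by rw [h])
  have hψd : ψ ≠ d := fun h => hds.2.1 (by rw [h])
  have hcd : c ≠ d := fun h => hds.2.2 (by rw [h])
  -- there is no other one
  have F : Four x y z ψ ψ' c d := by
    refine ⟨D, fun χ => ⟨fun hχ => ?_, ?_⟩, h1c, h1d, hψc, hψd, hcd⟩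
    · by_contra hcon
      push Not at hcon
      obtain ⟨n1, n2, n3, n4⟩ := hcon
      apply h5
      obtain ⟨s, hs⟩ : ∃ s : Finset (G → ℂ), s = {(χ : G → ℂ), ((one : IrrCharacter G) : G → ℂ), (ψ : G → ℂ),
        (c : G → ℂ), (d : G → ℂ)} := ⟨_, rfl⟩
      refine Cfsg.Agent.H329.K4.good5_of_finset s ?_ ?_
      · intro φ hφ
        rw [hs] at hφ
        simp only [Finset.mem_insert, Finset.mem_singleton] at hφ
        rcases hφ with rfl | rfl | rfl | rfl | rfl
        · exact hχ
        · exact g1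
        · exact gψ
        · exact hc'
        · exact hd'
      · rw [hs, Finset.card_insert_of_notMem, Finset.card_insert_of_notMem, Finset.card_insert_of_notMem,
          Finset.card_pair (hne hcd)]
        · simpa using ⟨hne hψc, hne hψd⟩
        · simpa using ⟨hne (one_ne_ψ D), hne h1c, hne h1d⟩
        · simpa using ⟨hne n1, hne n2, hne n3, hne n4⟩
    · rintro (rfl | rfl | rfl | rfl)
      · exact g1
      · exact gψ
      · exact hc'
      · exact hd'
  -- the principal 13-block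
  obtain ⟨M, hM, hB⟩ := D.block
  obtain ⟨s, hs⟩ : ∃ s : Finset (IrrCharacter G), s = {one, ψ, c, d} := ⟨_, rfl⟩
  have hsm : ∀ χ : IrrCharacter G, χ ∈ s ↔ ¬ 2 ∣ charDegree (χ : G → ℂ) ∧ sig hk χ = χ := by
    intro χ
    rw [← good_iff hC hk, F.mem, hs]
    simp only [Finset.mem_insert, Finset.mem_singleton]
  have hpar := parity13 D hk s hsm hM hB
  have m1 : (one : IrrCharacter G) ∈ principalBlock M G := by
    have hMp : M.IsPrime := hM.2.1.isPrime
    exact Cfsg.Agent.Blocks.PrincipalSection.one_mem_principalBlock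
  have mψ : ψ ∉ principalBlock M G := by
    intro h
    have h6 := hB ψ h
    rw [D.dψ] at h6
    omega
  by_cases mc : c ∈ principalBlock M G <;> by_cases md : d ∈ principalBlock M G
  · have h6 : s.filter (· ∈ principalBlock M G) = {one, c, d} := by
      ext χ
      rw [Finset.mem_filter, hs]
      simp only [Finset.mem_insert, Finset.mem_singleton]
      constructor
      · rintro ⟨rfl | rfl | rfl | rfl, h⟩
        · simp
        · exact (mψ h).elim
        · simp
        · simp
      · rintro (rfl | rfl | rfl)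
        · exact ⟨by simp, m1⟩
        · exact ⟨by simp, mc⟩
        · exact ⟨by simp, md⟩
    rw [h6, Finset.card_insert_of_notMem (by simpa using ⟨h1c, h1d⟩), Finset.card_pair hcd] at hpar
    omega
  · exact F.absurd hB mc md
  · exact F.symm.absurd hB md mc
  · have h6 : s.filter (· ∈ principalBlock M G) = {one} := by
      ext χ
      rw [Finset.mem_filter, hs]
      simp only [Finset.mem_insert, Finset.mem_singleton]
      constructor
      · rintro ⟨rfl | rfl | rfl | rfl, h⟩
        · rfl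
        · exact (mψ h).elim
        · exact (mc h).elim
        · exact (md h).elim
      · rintro rfl
        exact ⟨by simp, m1⟩
    rw [h6, Finset.card_singleton] at hpar
    omega

/-- the model -/
theorem good5_model : Good5 Cfsg.Agent.SporadicB.RuOrder.H := by
  have hfin : Finite Cfsg.Agent.SporadicB.RuOrder.H := Cfsg.Agent.H436.TwoRu.finite_H
  obtain ⟨ψ, ψ', h⟩ := Cfsg.Agent.H536.K4.Ru.exists_data
  exact good5_of_data h

/-- [row] Ru -/
theorem good5 {S : Type u} [Group S] (h : Cfsg.Spor.IsoRu S) : Good5 S := by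
  have hfin : Finite Cfsg.Agent.SporadicB.RuOrder.H := Cfsg.Agent.H436.TwoRu.finite_H
  obtain ⟨ψ, ψ', hD⟩ := Cfsg.Agent.H536.K4.Ru.exists_data
  obtain ⟨e⟩ := h
  have e' := e.trans Cfsg.Agent.RuLat.Main.equiv
  have hS : Finite S := Finite.of_equiv _ e'.symm.toEquiv
  exact Cfsg.Agent.H329.K4.good5_of_equiv ((twoC hD.elt).congr e'.symm) e' good5_model

end Cfsg.Agent.H536.K4.RuGood
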