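import Cfsg.Agent.H536.K4.GaussFour

/-!
# Characters fixed by the Galois group: integral values and congruences (helper536)
-/

set_option autoImplicit false

open scoped ComplexConjugate
open Cfsg Cfsg.Agent.Characters.Core Cfsg.Agent.Blocks.Local

namespace Cfsg.Agent.H536.K4.Gauss

universe u
variable {G : Type u} [Group G] [Finite G]

/-- fixed by the Galois group -/
def Fx (χ : IrrCharacter G) : Prop :=
  ∀ k : ℕ, k.Coprime (Nat.card G) → ∀ g : G, (χ : G → ℂ) (g ^ k) = (χ : G → ℂ) g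

/-- the value as an integer -/
noncomputable def vl (χ : IrrCharacter G) (g : G) : ℤ := ⌊((χ : G → ℂ) g).re⌋

theorem Fx.val {χ : IrrCharacter G} (h : Fx χ) (g : G) : (χ : G → ℂ) g = (vl χ g : ℂ) := by
  obtain ⟨k, hk⟩ := Cfsg.Agent.Characters.GaloisBasic.exists_int_of_rat (isIrr_isCharacter χ.2) g
    ((Cfsg.Agent.Characters.GaloisBasic.exists_rat_iff (isIrr_isCharacter χ.2) g).2 fun m hm => h m hm g)
  unfold vl
  rw [hk]
  simp

theorem Fx.modEq {χ : IrrCharacter G} (h : Fx χ) {p : ℕ} [hp : Fact p.Prime] {y : G} (hy : orderOf y = p) :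
    (p : ℤ) ∣ vl χ y - charDegree (χ : G → ℂ) := by
  obtain ⟨M, hM⟩ := Cfsg.Agent.Blocks.ExistsModular.exists_isPModular hp.out
  have hMp : M.IsPrime := hM.2.1.isPrime
  have h1 : IsPPart p y y := ⟨1, mul_one y, Commute.one_right y, ⟨1, by rw [hy, pow_one]⟩, by
    rw [orderOf_one]; exact hp.out.one_lt.ne' ∘ Nat.dvd_one.1⟩
  have h2 := Cfsg.Agent.CharactersDeep.ModCongr.memLocalIdeal_character_sub hM χ.2 y y h1
  rw [inv_mul_cancel, h.val, Cfsg.Agent.Blocks.Basic.irr_one_eq_charDegree χ.2] at h2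
  have h3 : (((vl χ y : ℤ) : ℂ) - ((charDegree (χ : G → ℂ) : ℕ) : ℂ)) = ((vl χ y - charDegree (χ : G → ℂ) : ℤ) : ℂ) := by
    push_cast
    rfl
  rw [h3, memLocalIdeal_intCast_iff hM] at h2
  exact h2

/-- the sum of the squares of some integral values -/
theorem sum_sq_le (S : Finset (IrrCharacter G)) (hS : ∀ χ ∈ S, Fx χ) (y : G) :
    ∑ χ ∈ S, vl χ y ^ 2 ≤ (Nat.card (Subgroup.centralizer ({y} : Set G)) : ℤ) := by
  classical
  have := Fintype.ofFinite G
  have : Finite (IrrCharacter G) := finite_irr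
  have := Fintype.ofFinite (IrrCharacter G)
  have h1 := S0145.sum_irr_mul_conj y y
  rw [if_pos (IsConj.refl y)] at h1
  have h2 : ∑ χ : IrrCharacter G, ‖(χ : G → ℂ) y‖ ^ 2 = (Nat.card (Subgroup.centralizer ({y} : Set G)) : ℝ) := by
    have h3 : ∀ χ : IrrCharacter G, (χ : G → ℂ) y * conj ((χ : G → ℂ) y) = ((‖(χ : G → ℂ) y‖ ^ 2 : ℝ) : ℂ) := by
      intro χ
      rw [Complex.mul_conj, Complex.normSq_eq_norm_sq]
    rw [Finset.sum_congr rfl fun χ _ => h3 χ, ← Complex.ofReal_sum] at h1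
    exact_mod_cast h1
  have h3 : ∑ χ ∈ S, ((vl χ y : ℤ) : ℝ) ^ 2 ≤ ∑ χ : IrrCharacter G, ‖(χ : G → ℂ) y‖ ^ 2 := by
    refine le_trans (Finset.sum_le_sum fun χ hχ => ?_)
      (Finset.sum_le_sum_of_subset_of_nonneg (Finset.subset_univ S) fun _ _ _ => sq_nonneg _)
    rw [(hS χ hχ).val, Complex.norm_intCast, sq_abs]
  rw [h2] at h3
  exact_mod_cast h3

/-- the Galois conjugate -/
noncomputable def pw {k : ℕ} (hk : k.Coprime (Nat.card G)) (χ : IrrCharacter G) : IrrCharacter G :=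
  ⟨fun g => (χ : G → ℂ) (g ^ k), Cfsg.Agent.Characters.GaloisIrr.isIrr_pow hk χ.2⟩

theorem pw_apply {k : ℕ} (hk : k.Coprime (Nat.card G)) (χ : IrrCharacter G) (g : G) :
    (pw hk χ : G → ℂ) g = (χ : G → ℂ) (g ^ k) := rfl

theorem charDegree_pw {k : ℕ} (hk : k.Coprime (Nat.card G)) (χ : IrrCharacter G) :
    charDegree (pw hk χ : G → ℂ) = charDegree (χ : G → ℂ) := by
  apply Cfsg.Agent.Blocks.Basic.charDegree_of_eq
  rw [pw_apply, one_pow, Cfsg.Agent.Blocks.Basic.irr_one_eq_charDegree χ.2]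

theorem surj_pow {k : ℕ} (hk : k.Coprime (Nat.card G)) (g : G) : ∃ h : G, h ^ k = g := by
  obtain ⟨h, hh⟩ := (powCoprime hk.symm).surjective g
  exact ⟨h, hh⟩

theorem pw_injective {k : ℕ} (hk : k.Coprime (Nat.card G)) : Function.Injective (pw hk : IrrCharacter G → _) := by
  intro χ ψ h
  apply Subtype.ext
  funext g
  obtain ⟨a, rfl⟩ := surj_pow hk g
  exact congrFun (congrArg Subtype.val h) a

theorem fx_iff {χ : IrrCharacter G} : Fx χ ↔ ∀ (k : ℕ) (hk : k.Coprime (Nat.card G)), pw hk χ = χ := by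
  constructor
  · intro h k hk
    exact Subtype.ext (funext fun g => h k hk g)
  · intro h k hk g
    exact congrFun (congrArg Subtype.val (h k hk)) g

variable {x : G}

theorem Elt.apply_pow (h : Elt x) (χ : IrrCharacter G) {k : ℕ} (hk : k.Coprime (Nat.card G)) :
    (χ : G → ℂ) (x ^ k) = (χ : G → ℂ) x ∨ (χ : G → ℂ) (x ^ k) = conj ((χ : G → ℂ) x) := by
  have h16 : 16 ∣ Nat.card G := by
    rw [← h.cent]
    exact Subgroup.card_subgroup_dvd_card _
  have hodd : k % 2 = 1 := by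
    by_contra hcon
    have h2 : 2 ∣ k := by omega
    have h3 : 2 ∣ Nat.card G := (by norm_num : 2 ∣ 16).trans h16
    have h4 := Nat.dvd_gcd h2 h3
    rw [hk] at h4
    omega
  have hr : x ^ k = x ^ (k % 16) := by
    conv_lhs => rw [← Nat.div_add_mod k 16]
    rw [pow_add, pow_mul, h.pow, one_pow, one_mul]
  have key : ∀ {a b : ℕ}, a + b = 16 → x ^ a = (x ^ b)⁻¹ := fun {a b} hab => by
    rw [eq_inv_iff_mul_eq_one, ← pow_add, hab, h.pow]
  have hlt : k % 16 < 16 := Nat.mod_lt _ (by norm_num)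
  have hodd2 : (k % 16) % 2 = 1 := by omega
  rw [hr]
  generalize k % 16 = r at hlt hodd2
  interval_cases r <;> first
    | omega
    | (left; rw [pow_one])
    | exact Or.inl (apply_conj χ.2 h.conj5)
    | exact Or.inl (apply_conj χ.2 h.conj9)
    | exact Or.inl (apply_conj χ.2 h.conj13)
    | (right; rw [key (a := 3) (b := 13) (by norm_num), apply_inv, apply_conj χ.2 h.conj13]; done)
    | (right; rw [key (a := 7) (b := 9) (by norm_num), apply_inv, apply_conj χ.2 h.conj9]; done)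
    | (right; rw [key (a := 11) (b := 5) (by norm_num), apply_inv, apply_conj χ.2 h.conj5]; done)
    | (right; rw [key (a := 15) (b := 1) (by norm_num), apply_inv, pow_one]; done)

theorem Elt.re_pw (h : Elt x) (χ : IrrCharacter G) {k : ℕ} (hk : k.Coprime (Nat.card G)) :
    re x (pw hk χ) = re x χ := by
  unfold re
  rw [pw_apply]
  rcases h.apply_pow χ hk with h1 | h1 <;> rw [h1]
  rw [Complex.conj_re]

end Cfsg.Agent.H536.K4.Gauss
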