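import Cfsg.Agent.H536.K4.LyGood
import Cfsg.Agent.H511.Ore.RowLy
import Cfsg.Agent.H438.Fpr.LyC
import Cfsg.Agent.H788.RatB.Ly
import Cfsg.Agent.H989.TwoCSpor
import Cfsg.Agent.H597.Taketa

/-!
# The data of `LyGood` for the Lyons group (helper536)
-/

set_option autoImplicit false

open Cfsg Cfsg.Agent.Characters.Core Cfsg.Agent.H536.K4.Gauss
open Subgroup hiding one
open scoped commutatorElement
open Cfsg.Agent.H715.Fpr Cfsg.Agent.H438.Fpr.Gen Cfsg.Agent.H409 Cfsg.Agent.H940.Eng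

namespace Cfsg.Agent.H536.K4.Ly

universe u

theorem lin {G : Type u} [Group G] [Finite G] (hc : commutator G = ⊤) (χ : IrrCharacter G)
    (h : charDegree (χ : G → ℂ) = 1) (g : G) : (χ : G → ℂ) g = 1 := by
  have h1 := Cfsg.Agent.H597.Taketa.commutator_le_ker_of_linear χ.2 h g (hc ▸ mem_top g)
  rw [h1, Cfsg.Agent.Blocks.Basic.irr_one_eq_charDegree χ.2, h, Nat.cast_one]

theorem perfect : commutator Spor.Ly = ⊤ := by
  have hs : IsSimpleGroup Spor.Ly := Cfsg.Agent.Ly.Setup.isSimple_ly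
  rcases (inferInstance : (commutator Spor.Ly).Normal).eq_bot_or_eq_top with h | h
  · exfalso
    have h1 : ∀ a b : Spor.Ly, a * b = b * a := by
      intro a b
      have h2 : ⁅a, b⁆ ∈ commutator Spor.Ly := commutator_mem_commutator (mem_top a) (mem_top b)
      rw [h, mem_bot, commutatorElement_eq_one_iff_mul_comm] at h2
      exact h2
    exact Cfsg.Agent.H511.Ore.Ly.nonab ⟨⟨h1⟩⟩
  · exact h

theorem exists_data (B : Cfsg.Agent.H940.Eng.Base) : ∃ ψ : IrrCharacter Spor.Ly,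
    haveI : Finite Spor.Ly := Cfsg.Agent.Ly.Setup.finite_ly
    LyGood.Data ψ := by
  have hfin : Finite Spor.Ly := Cfsg.Agent.Ly.Setup.finite_ly
  obtain ⟨χ, -, -, hd, hr⟩ := Cfsg.Agent.H788.RatB.LyRow.exists_chi
  have hI : Spor.IsoLy Spor.Ly := ⟨MulEquiv.refl _⟩
  have hK : H995.CopEngine.AllKnown.{0} := B.known
  refine ⟨χ 4, ?_⟩
  exact
    { card := Cfsg.Agent.Ly.Setup.card_ly
      twoC := Cfsg.Agent.H989.TwoCSpor.twoC_ly hI
      lin := lin perfect
      fx := fun k hk g => (Cfsg.Agent.Characters.GaloisBasic.exists_rat_iff (isIrr_isCharacter (χ 4).2) g).1 (hr 4 g) k hk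
      dψ := hd 4
      c67 := fun x hx => H655.LySixtySeven.card_centralizer hK hI hx
      c37 := fun x hx => H215.CC.LyThirtySeven.card_centralizer hK hI hx
      c31 := fun x hx => Cfsg.Agent.H511.Ore.Ly.card31 hx
      c11 := fun R hR => by
        have : Fact (Nat.Prime 11) := ⟨by norm_num⟩
        refine ⟨?_, (Cfsg.Agent.H438.Fpr.Ly.cn11 hR).2⟩
        obtain ⟨w, hw, rfl⟩ := eq_zpowers' (by norm_num) hR
        rw [cent_zpowers']
        exact Cfsg.Agent.H511.Ore.Ly.card11 hw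
      c7 := fun R hR => Cfsg.Agent.H438.Fpr.Ly.cn7 B hR }

end Cfsg.Agent.H536.K4.Ly
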