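import Mathlib

/-!
# The finite search for the row Ly (helper536)

`search` : the odd divisors `c`, `d` of the order of the Lyons group with the residues modulo 7, 11, 31, 37, 67 of two
further good characters.
-/

set_option autoImplicit false
set_option maxRecDepth 100000

namespace Cfsg.Agent.H536.K4.LySearch

/-- the odd divisors of the order -/
def L : List ℕ := [1, 3, 9, 27, 81, 243, 729, 2187].flatMap fun a => [1, 5, 25, 125, 625, 3125, 15625].flatMap fun b =>
  [1, 7].flatMap fun c => [1, 11].flatMap fun d => [1, 31].flatMap fun e => [1, 37].flatMap fun f =>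
    [1, 67].map fun g => a * b * c * d * e * f * g

theorem mem_L {n : ℕ} (h : n ∣ 202207730484375) : n ∈ L := by
  have h1 : n ∣ 3 ^ 7 * (5 ^ 6 * (7 * (11 * (31 * (37 * 67))))) := by simpa using h
  obtain ⟨a, m1, ha, h2, rfl⟩ := (Nat.dvd_mul).1 h1
  obtain ⟨b, m2, hb, h3, rfl⟩ := (Nat.dvd_mul).1 h2
  obtain ⟨c, m3, hc, h4, rfl⟩ := (Nat.dvd_mul).1 h3
  obtain ⟨d, m4, hd, h5, rfl⟩ := (Nat.dvd_mul).1 h4
  obtain ⟨e, m5, he, h6, rfl⟩ := (Nat.dvd_mul).1 h5
  obtain ⟨f, g, hf, hg, rfl⟩ := (Nat.dvd_mul).1 h6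
  have ha' : a ∈ [1, 3, 9, 27, 81, 243, 729, 2187] := by
    obtain ⟨i, hi, rfl⟩ := (Nat.dvd_prime_pow Nat.prime_three).1 ha
    interval_cases i <;> decide
  have hb' : b ∈ [1, 5, 25, 125, 625, 3125, 15625] := by
    obtain ⟨i, hi, rfl⟩ := (Nat.dvd_prime_pow Nat.prime_five).1 hb
    interval_cases i <;> decide
  have hc' : c ∈ [1, 7] := by
    rcases (Nat.dvd_prime (by norm_num)).1 hc with rfl | rfl <;> decide
  have hd' : d ∈ [1, 11] := by
    rcases (Nat.dvd_prime (by norm_num)).1 hd with rfl | rfl <;> decide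
  have he' : e ∈ [1, 31] := by
    rcases (Nat.dvd_prime (by norm_num)).1 he with rfl | rfl <;> decide
  have hf' : f ∈ [1, 37] := by
    rcases (Nat.dvd_prime (by norm_num)).1 hf with rfl | rfl <;> decide
  have hg' : g ∈ [1, 67] := by
    rcases (Nat.dvd_prime (by norm_num)).1 hg with rfl | rfl <;> decide
  unfold L
  simp only [List.mem_flatMap, List.mem_map]
  exact ⟨a, ha', b, hb', c, hc', d, hd', e, he', f, hf', g, hg', by ring⟩

def r (n p : ℕ) : Bool := n % p == 0 || (n % p == 1 || n % p == p - 1)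

def okA (n : ℕ) : Bool := n % 37 == 0 && (r n 31 && (r n 67 && Nat.ble (n * n) 51765179004000000))

def okB (n : ℕ) : Bool := (n % 37 == 1 || n % 37 == 36) &&
  (r n 31 && (r n 67 && (n != 1 && Nat.ble (n * n) 51765179004000000)))

def LA : List ℕ := L.filter okA

def LB : List ℕ := [31155, 105525, 417879, 799645, 2336625, 9253035, 52994655, 59973375, 103640625, 175246875]

theorem lb_check : (L.all fun n => !okB n || LB.contains n) = true := by decide +kernel

/-- exactly one is divisible by `p` -/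
def u (c d p : ℕ) : Bool := (c % p == 0 && (d % p == 1 || d % p == p - 1)) || (d % p == 0 && (c % p == 1 || c % p == p - 1))

def fin (c d : ℕ) : Bool := (c == 3871125 && (d == 105525 || (d == 417879 || d == 103640625))) ||
  (c == 70804125 && d == 175246875)

def chk (c d : ℕ) : Bool := !(u c d 31 && (u c d 67 && ((c % 7 == 1 || c % 7 == 6 || (d % 7 == 1 || d % 7 == 6)) &&
  (c % 11 == 1 || c % 11 == 10 || (c % 11 == 5 || c % 11 == 6) ||
    (d % 11 == 1 || d % 11 == 10 || (d % 11 == 5 || d % 11 == 6)))))) || fin c d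

theorem fin_check : (L.all fun c => !okA c || LB.all fun d => chk c d) = true := by decide +kernel

/-- the residues modulo `p` -/
def U (c d p : ℕ) : Prop := (c % p = 0 ∧ (d % p = 1 ∨ d % p = p - 1)) ∨ (d % p = 0 ∧ (c % p = 1 ∨ c % p = p - 1))

theorem u_of {c d p : ℕ} (h : U c d p) : u c d p = true := by
  unfold u
  rcases h with ⟨h1, h2 | h2⟩ | ⟨h1, h2 | h2⟩ <;> simp [h1, h2]

theorem r_of {c d p : ℕ} (h : U c d p) : r c p = true ∧ r d p = true := by
  unfold r
  rcases h with ⟨h1, h2 | h2⟩ | ⟨h1, h2 | h2⟩ <;> simp [h1, h2]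

theorem odd_part {n : ℕ} (h : n ∣ 51765179004000000) (h2 : ¬ 2 ∣ n) : n ∣ 202207730484375 := by
  have h4 : n ∣ 2 ^ 8 * 202207730484375 := by simpa using h
  refine Nat.Coprime.dvd_of_dvd_mul_left ?_ h4
  exact Nat.Coprime.pow_right 8 ((Nat.Prime.coprime_iff_not_dvd Nat.prime_two).2 h2).symm

theorem search {c d : ℕ} (hc : c ∣ 51765179004000000) (hc2 : ¬ 2 ∣ c) (hd : d ∣ 51765179004000000) (hd2 : ¬ 2 ∣ d)
    (hd1 : d ≠ 1) (h37 : c % 37 = 0 ∧ (d % 37 = 1 ∨ d % 37 = 36)) (h31 : U c d 31) (h67 : U c d 67)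
    (hcc : c * c ≤ 51765179004000000) (hdd : d * d ≤ 51765179004000000)
    (h7 : (c % 7 = 1 ∨ c % 7 = 6) ∨ (d % 7 = 1 ∨ d % 7 = 6))
    (h11 : ((c % 11 = 1 ∨ c % 11 = 10) ∨ (c % 11 = 5 ∨ c % 11 = 6)) ∨
      ((d % 11 = 1 ∨ d % 11 = 10) ∨ (d % 11 = 5 ∨ d % 11 = 6))) :
    (c = 3871125 ∧ (d = 105525 ∨ d = 417879 ∨ d = 103640625)) ∨ (c = 70804125 ∧ d = 175246875) := by
  have mc := mem_L (odd_part hc hc2)
  have md := mem_L (odd_part hd hd2)
  have hA : okA c = true := by
    unfold okA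
    rw [(r_of h31).1, (r_of h67).1, h37.1]
    simpa using hcc
  have hB : okB d = true := by
    unfold okB
    rw [(r_of h31).2, (r_of h67).2]
    simp only [Bool.true_and, Bool.and_eq_true, Bool.or_eq_true, beq_iff_eq, bne_iff_ne, ne_eq, Nat.ble_eq]
    exact ⟨h37.2, hd1, hdd⟩
  have h1 := (List.all_eq_true.1 lb_check) d md
  rw [hB] at h1
  simp only [Bool.not_true, Bool.false_or] at h1
  have h2 := (List.all_eq_true.1 fin_check) c mc
  rw [hA] at h2
  simp only [Bool.not_true, Bool.false_or] at h2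
  have h3 := (List.all_eq_true.1 h2) d (by simpa using h1)
  unfold chk at h3
  rw [u_of h31, u_of h67] at h3
  have e7 : (c % 7 == 1 || c % 7 == 6 || (d % 7 == 1 || d % 7 == 6)) = true := by
    simpa only [Bool.or_eq_true, beq_iff_eq] using h7
  have e11 : (c % 11 == 1 || c % 11 == 10 || (c % 11 == 5 || c % 11 == 6) ||
    (d % 11 == 1 || d % 11 == 10 || (d % 11 == 5 || d % 11 == 6))) = true := by
    simpa only [Bool.or_eq_true, beq_iff_eq] using h11
  rw [e7, e11] at h3
  simp only [Bool.and_self, Bool.not_true, Bool.false_or] at h3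
  unfold fin at h3
  simpa only [Bool.or_eq_true, Bool.and_eq_true, beq_iff_eq] using h3

end Cfsg.Agent.H536.K4.LySearch
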