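import Mathlib

/-!
# The finite search for the row Ru (helper536)

`pos`, `neg` : no odd divisors `|B|`, `|C|` of `|Ru|` and no even divisor `|E|` satisfy the relations of the columns of the
elements of order 1, 13 and 29.
-/

set_option autoImplicit false
set_option maxRecDepth 100000

namespace Cfsg.Agent.H536.K4.RuSearch

/-- the odd divisors of the order -/
def L : List ℕ := [1, 3, 9, 27].flatMap fun a => [1, 5, 25, 125].flatMap fun b => [1, 7].flatMap fun c =>
  [1, 13].flatMap fun d => [1, 29].map fun e => a * b * c * d * e

theorem mem_L {n : ℕ} (h : n ∣ 8906625) : n ∈ L := by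
  have h1 : n ∣ 27 * (125 * (7 * (13 * 29))) := by simpa using h
  obtain ⟨a, m1, ha, h2, rfl⟩ := (Nat.dvd_mul).1 h1
  obtain ⟨b, m2, hb, h3, rfl⟩ := (Nat.dvd_mul).1 h2
  obtain ⟨c, m3, hc, h4, rfl⟩ := (Nat.dvd_mul).1 h3
  obtain ⟨d, e, hd, he, rfl⟩ := (Nat.dvd_mul).1 h4
  have ha' : a ∈ [1, 3, 9, 27] := by
    have h5 : a ≤ 27 := Nat.le_of_dvd (by norm_num) ha
    interval_cases a <;> first | decide | (exfalso; revert ha; decide)
  have hb' : b ∈ [1, 5, 25, 125] := by
    have h5 : b ≤ 125 := Nat.le_of_dvd (by norm_num) hb
    interval_cases b <;> first | decide | (exfalso; revert hb; decide)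
  have hc' : c ∈ [1, 7] := by
    have h5 : c ≤ 7 := Nat.le_of_dvd (by norm_num) hc
    interval_cases c <;> first | decide | (exfalso; revert hc; decide)
  have hd' : d ∈ [1, 13] := by
    have h5 : d ≤ 13 := Nat.le_of_dvd (by norm_num) hd
    interval_cases d <;> first | decide | (exfalso; revert hd; decide)
  have he' : e ∈ [1, 29] := by
    have h5 : e ≤ 29 := Nat.le_of_dvd (by norm_num) he
    interval_cases e <;> first | decide | (exfalso; revert he; decide)
  unfold L
  simp only [List.mem_flatMap, List.mem_map]
  exact ⟨a, ha', b, hb', c, hc', d, hd', e, he', by ring⟩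

/-- with signs -/
def LS : List ℤ := (L.map fun n : ℕ => (n : ℤ)) ++ (L.map fun n : ℕ => -(n : ℤ))

def R5 : List ℤ := [-5, -4, -3, -2, -1, 0, 1, 2, 3, 4, 5]
def R6 : List ℤ := [-6, -5, -4, -3, -2, -1, 0, 1, 2, 3, 4, 5, 6]

/-- the column of the element of order 29 -/
def r29 (B C E : ℤ) : Bool :=
  R5.any fun b => decide ((b - B) % 29 = 0) && R5.any fun c => decide ((c - C) % 29 = 0) &&
    R5.any fun e => decide ((e - E) % 29 = 0) && (decide (1 + b + c + 2 * e = 0) &&
      decide (1 + b * b + c * c + e * e ≤ 29))

/-- the principal 13-block -/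
def sub13 (b c e : ℤ) : Bool :=
  [true, false].any fun i => [true, false].any fun j => [true, false].any fun k =>
    (!i || decide (b = 1) || decide (b = -1)) && ((!j || decide (c = 1) || decide (c = -1)) &&
    ((!k || decide (e = 1) || decide (e = -1)) &&
      decide (1 + (if i then b else 0) + (if j then c else 0) + 2 * (if k then e else 0) = 0)))

/-- the column of the element of order 13 -/
def r13 (s B C E : ℤ) : Bool :=
  R6.any fun b => decide ((b - B) % 13 = 0) && R6.any fun c => decide ((c - C) % 13 = 0) &&
    R6.any fun e => decide ((e - E) % 13 = 0) && (decide (1 + 3 * s + b + c + 2 * e = 0) &&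
      (decide (10 + b * b + c * c + e * e ≤ 52) && sub13 b c e))

/-- the possible pairs -/
def cand (B C : ℤ) : Bool :=
  decide ((784 + B + C) % 4 = 0) && (decide ((B.natAbs : ℤ) % 4 = (C.natAbs : ℤ) % 4) &&
    (decide (1 < B.natAbs) && (decide (1 < C.natAbs) && (decide (784 + B + C ≠ 0) &&
      (decide (145926144000 % ((784 + B + C) / 2).natAbs = 0) &&
        (r29 B C (-((784 + B + C) / 2)) && r13 1 B C (-((784 + B + C) / 2))))))))

/-- the rows number `a`, …, `a + n - 1` of the search -/
def seg (a n : ℕ) : Bool := ((LS.drop a).take n).all fun B => LS.all fun C => !(cand B C)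

theorem seg_cons {a n : ℕ} (h : seg a n = true) (h' : ((LS.drop (a + n)).all fun B => LS.all fun C => !(cand B C)) = true) :
    ((LS.drop a).all fun B => LS.all fun C => !(cand B C)) = true := by
  rw [← List.take_append_drop n (LS.drop a), List.all_append, List.drop_drop, Bool.and_eq_true]
  exact ⟨h, h'⟩

theorem pos0 : seg 0 16 = true := by decide +kernel
theorem pos16 : seg 16 16 = true := by decide +kernel
theorem pos32 : seg 32 16 = true := by decide +kernel
theorem pos48 : seg 48 16 = true := by decide +kernel
theorem pos64 : seg 64 16 = true := by decide +kernel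
theorem pos80 : seg 80 16 = true := by decide +kernel
theorem pos96 : seg 96 16 = true := by decide +kernel
theorem pos112 : seg 112 16 = true := by decide +kernel
theorem pos128 : seg 128 16 = true := by decide +kernel
theorem pos144 : seg 144 16 = true := by decide +kernel
theorem pos160 : seg 160 16 = true := by decide +kernel
theorem pos176 : seg 176 16 = true := by decide +kernel
theorem pos192 : seg 192 16 = true := by decide +kernel
theorem pos208 : seg 208 16 = true := by decide +kernel
theorem pos224 : seg 224 16 = true := by decide +kernel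
theorem pos240 : seg 240 16 = true := by decide +kernel

theorem posEnd : ((LS.drop 256).all fun B => LS.all fun C => !(cand B C)) = true := by decide +kernel

theorem pos : (LS.all fun B => LS.all fun C => !(cand B C)) = true := by
  have h := seg_cons pos0 <|
    seg_cons pos16 <|
    seg_cons pos32 <|
    seg_cons pos48 <|
    seg_cons pos64 <|
    seg_cons pos80 <|
    seg_cons pos96 <|
    seg_cons pos112 <|
    seg_cons pos128 <|
    seg_cons pos144 <|
    seg_cons pos160 <|
    seg_cons pos176 <|
    seg_cons pos192 <|
    seg_cons pos208 <|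
    seg_cons pos224 <|
    seg_cons pos240 posEnd
  exact h

/-- the possible pairs -/
def cand' (B : ℤ) : Bool :=
  decide (1 < B.natAbs) && (LS.contains (-5770 - B) && (r29 B (-5770 - B) 3276 && r13 (-1) B (-5770 - B) 3276))

/-- the rows number `a`, …, `a + n - 1` of the search -/
def segN (a n : ℕ) : Bool := ((LS.drop a).take n).all fun B => !(cand' B)

theorem segN_cons {a n : ℕ} (h : segN a n = true) (h' : ((LS.drop (a + n)).all fun B => !(cand' B)) = true) :
    ((LS.drop a).all fun B => !(cand' B)) = true := by
  rw [← List.take_append_drop n (LS.drop a), List.all_append, List.drop_drop, Bool.and_eq_true]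
  exact ⟨h, h'⟩

theorem neg0 : segN 0 32 = true := by decide +kernel
theorem neg32 : segN 32 32 = true := by decide +kernel
theorem neg64 : segN 64 32 = true := by decide +kernel
theorem neg96 : segN 96 32 = true := by decide +kernel
theorem neg128 : segN 128 32 = true := by decide +kernel
theorem neg160 : segN 160 32 = true := by decide +kernel
theorem neg192 : segN 192 32 = true := by decide +kernel
theorem neg224 : segN 224 32 = true := by decide +kernel

theorem negEnd : ((LS.drop 256).all fun B => !(cand' B)) = true := by decide +kernel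

theorem neg : (LS.all fun B => !(cand' B)) = true := by
  have h := segN_cons neg0 <|
    segN_cons neg32 <|
    segN_cons neg64 <|
    segN_cons neg96 <|
    segN_cons neg128 <|
    segN_cons neg160 <|
    segN_cons neg192 <|
    segN_cons neg224 negEnd
  exact h

end Cfsg.Agent.H536.K4.RuSearch
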