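import Cfsg.Agent.H436.TwoRu
import Cfsg.Agent.H690.Spor.Ru

/-!
# Elements of order 16, 13 and 29 in the Rudvalis group (helper536, row Ru of S4947)

In the model `RuOrder.H`, with the certificate engine of `CpAutRuFive.Eng`: `x = wprod ml wx` has order 16,
`|C(x)| = 16`, `x` is conjugate to `x ^ 5` and not conjugate to its inverse; an element of order 13 is conjugate
to its square.
-/

set_option autoImplicit false
set_option maxRecDepth 100000
set_option exponentiation.threshold 5000

namespace Cfsg.Agent.H536.K4.RuX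

open Subgroup Cfsg Cfsg.Agent.SporadicB Cfsg.Agent.SporadicB.RuData Cfsg.Agent.RuD.Letters
open Cfsg.Agent.SporRec.TCUpperCert Cfsg.Agent.Lib.BitNet Cfsg.Agent.SporRec.R3.Kernel
open Cfsg.Agent.KFacts.Ru Cfsg.Agent.KFacts.Ru.CentEng Cfsg.Agent.CpAutRuFive.Eng
open Cfsg.Agent.Lib.BitNetSimple (force force_eq tb tb_eq)

/-- an element of order 16 -/
def wx : List ℕ := [0, 3, 1, 5]

/-- its inverse -/
def wi : List ℕ := [5, 6, 7, 0]

/-- a word conjugating `x` to `x ^ 5` -/
def wg : List ℕ := [8, 7, 5, 3, 5, 0, 4, 7, 5, 7, 5, 8, 0, 5, 8, 3, 6, 7, 0, 5, 0, 4, 3, 1, 5, 3, 8, 0, 5, 7, 5, 3, 4]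

/-- a word conjugating the element of order 13 to its square -/
def wh : List ℕ := [2, 6, 4, 7, 2, 1, 2, 1]

/-- repeated word -/
def rp (n : ℕ) (w : List ℕ) : List ℕ := Nat.rec [] (fun _ ih => w ++ ih) n

/-- points adjacent to their image under `x ^ 1` -/
def M1 : ℕ := 0x591d3ac68a8c3c16b4ad6a4d9d5941a06d18409c22c35b186c08ea00082a71ecc9089321366c9a1182b4d0411e610f01065aa585b7cd72c26426001049301357648241810385d9c5ba70e3602388ea21c2e0047658413ba1b800e30e77325014a4078ad8bd4c173135a039022889023c20a54a1e94004717399070975b033e43530dfd051002204a2494aa9c1e124457b4111d066ce049ca13057a8b8328f9000c4a368447a54ff40d61884178dd204506002a42875aa3d59aaa357413ba0088166c164383c6a12384379e9de254928ba02afba490e04066436237fca91701022c2a90b62176812b337497834b832427b6d5f21865626cb3104628422d500f3744c19bd6b34d220814bc5162a0d7b81d9bbad0d405d6528297b229b12438c70978d4255791229f469dac50089129e160d7b85edb7c44055072774996027ac7c17a2b4d50718f9c205319026879d14787e7b804534e80816c5a9e384054a3a52290002c66bda757e538d361ac876c221e086c2f326a1e6d91b566d0ce894878c5189eaa19cfa31e8a0194101773a264325ca24768180215833c5441eb68b1c10fd55c04364224d1ea1a8e060852810f633006298cd8023ff8e4e3055e68008b2620292156e00083798d76091a08418b1af806dee0e4d4498aeae038c300078ed8baea7d29391e4c647b0951d408e90204753041191df87471ab00429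

/-- points adjacent to their image under `x ^ 2` -/
def M2 : ℕ := 0x95cedb1a041c4011dbd140123cf6922c189e58e1121038b438656380f3c2bf1b018920698b9e45c6d9018fb2211cd8390005605297a3a0ca7404203493203348ed3a08a905c34f143c91a9240af32cda894b8669f4a0158279c59060e94004058a321da266ba3583c1612068993e80004532abd0492970194286e9086204c268f0c2274b2079c014a690e292486274269131081f0480036670e1804210c489a16714a39a2994c043e7484166a242b8a16018e0e444885c801c945db1e1929e47a96a49f04c0ab8dc9d5323606a80cb0f594132eb9414edde001f23018d60642a25ab34f50d80161827ec1017a6d04aa3e140080c2159918241964184caedd0599e0a02e09cca430669e286854b828d6954019143285810199804e4d026a18200a31802419402206a8033330404cc01257966894ecba7012222d9a84192bd3170aa12b3822388be638f383010831310b813a5fc6377a0c709c0a40013802058124a3abc104cb00418bb85193b1410240946845af2d366e9c4087b081f8a849e424a8050ddad10526801029183083932706919430882d84a12014d305f0a86b10901d0574027a1062aa1c4b492f4001354410bbbf6001b021e903be1558741c1d7e4082e3c9a186a0908bf89e4489400c05530277c804e9a246446c590816623a5868506538461482582439f2e070e300b668e6a26020ea33019001c4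

/-- points adjacent to their image under `x ^ 3` -/
def M3 : ℕ := 0xf362aaf40f31c63be4282a9eb8226af3920fd1680948bb0d72532d1852c82ac4cc8332a2a5944ad619994a701f059d2c28430492176642030c4324804900481e2969d02040c037309660c28329d7eb9ac26383b421b80ccbc00f512e9612c231781340c2f95719b24af40802e1e551b8609801cc210cab10106c12c91a23790931eeda354462e01292850885bea22111e4515541e0df8b3058a2f49657246086ad589538cad43f2384b85045350c10e0400c25d2c210336593176b86a82852c98f429386eb7c85bc206486f120b04f23b9016b1340ce91690070602fa04365188905210689b292930624861111270495548462512400fa69bf1c2e065ca5246f3a12bd527b814cfe213677004011de1646146798408843880d77ac3b14b05d3bf38b476e012cba3054e7509914ea4bf42e98e1cdbaa92040d84cea13d1e7c224107317a04663590700257e42bb86499ba494fc9ad171f0ca5b68181185b3ff02c824932f31671acdc2d8903527e626d73a30e0c4585884317c859cc719047f0b8a0daf4c491312c2d542c050a2b3b14a450ba0c9181308c12f11292c2c11445300b863c5610316d00754a40aeaa5058b7200132e408c38e605ec578f5d8909b005230d49a36145709485d1be6c34c8fa1ff4f9c82cba09b04263c8b1d561a9b90b25518043c640403547c3894842104e71ad5178af6f5dc26041c41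

/-- points adjacent to their image under `x ^ 4` -/
def M4 : ℕ := 0x8a3410c5dc9fff0a8c2df67ff24276e1e468440a2a4ccd414c7809550c7df02c7cd108421184a26f18dbd68df0a5afc8fed96dc518901e022407c905218b58e51007e170902514fd6334d58ad5d4e132b0c108d61871dbb48602b725e5b8f37afcaf0154dd350f115d1a0995fe447aea280d41111654acc0a55c1e2f11906f1f3cee86110de208a8bec8b771b58a2910e2cd5d61bc19a8a10c32818a7c1dd0c6b908a46f40e91991d49094794c514b63cf8125a8c45f00aa8ab3a11a1b4111a1988f970752530122a271408527299732b9b6d8b07aad90609e42816c1ab34bf7688e89d6eaade9c9a774d7ab0427b3f9d0f38d8a728ce2dd21448a23b163035441dbdc0522158c833697313008fff20a71cea8fc028804fc75152b1fb4ca9f6c5bf7d5bd88abb1bb04601c9230f756cc46a83c8f42680ec0352260387f330ed705254abff5fc8918c2bde56f73ffabb78ec6308a41833bfe13a73c6d7399b944a12561096141762d1403e474286f50d2116391635680ac39a1fa758a3025fb5327cba42d7211810dc204ca9ec372e22c1ee4755be501bca5b7793b708d90c014a0639a43da4820391815074398eb8c2c2bb4200db74f4cd8cb2d5a9c6893378e3b6b499da5e610f63156fe03eb77cb3c0be4633b3985051b07e119aa04009e68dac384883057a6ccf9ef71d3f4b8451871855279d64c51f4c082a71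

/-- points adjacent to their image under `x ^ 5` -/
def M5 : ℕ := 0x69e6061132eb9e6b8445ee6451787450f4d80791d33c4a5c4e661b16c9a632670d300a4c922e3bdd271e8c81e27b2950d500ccd1205ec24374463996a28008928c8b34d910222c27bc000d48a2c36720e059420f03427c92b814842f793aec2c9c97957707ad8307891b67615aa4223e44340605034aa54f5496de3068123b7bf00210970c41bd80681dae74f1fe064edc81506c805c406ac8bb4043bd79052393681457b2885a025c73b7dde2cedb4905101bb6a4aca12c5083b950b0fd42ab148f020c83bc583506538c46e702988a2835a060183278ccd506c3d8f2208400108e77e604cd030d067490799548e209402d4da4204208b3a058e8e01d98030c76948917a466ad80819d1845c9b7908ed2b6b2429a544098b8962f961c9c820841503add330a2b04307850188c00a44c5514b20900d40c009f21819808308b95dc205a4896a6cd8e8e05960c4e6ad4c82eaa2802c084178120b7d30dac13a662344969ecf888bc801651c22f80a251840b8d3b48a6fcf09c3fdea44ba268c9a1f5b11d5294e28c8a00a052a54b74faad1360b33d813071ae13ac52d05ae8a10f27c6c8120764a4e84454a41d30a224cc313216e4e1119b206be0065eb0a8493e61c800731c6ab00ab41e72e98f805400f2028376c6640ae104e4f8c8b15210d1626ccc703d836f2cd3309343a4d0ac107b2049534009cb64720274f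

/-- instructions -/
def ins : List St := [
  .and 1 3, .diff 0 1, .diff 0 4, .diff 0 7, .base 0 69, .and 13 7, .and 0 4, .and 0 4, .and 0 4, .pt 0 1748,
  .and 17 11, .and 0 10, .and 0 12, .and 0 5, .diff 0 26, .pt 0 1475, .and 10 6, .diff 0 31, .pt 0 693]

theorem adj1 : chkAdj (rp 1 wx) M1 = true := by decide +kernel
theorem adj2 : chkAdj (rp 2 wx) M2 = true := by decide +kernel
theorem adj3 : chkAdj (rp 3 wx) M3 = true := by decide +kernel
theorem adj4 : chkAdj (rp 4 wx) M4 = true := by decide +kernel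
theorem adj5 : chkAdj (rp 5 wx) M5 = true := by decide +kernel

theorem runX : run wx ins [M1, M2, M3, M4, M5] = some 16 := by decide +kernel

/-! ### the centralizer -/

theorem wprod_rp (n : ℕ) (w : List ℕ) : (wprod ml (rp n w) : RuOrder.H) = wprod ml w ^ n := by
  induction n with
  | zero => rw [pow_zero]; rfl
  | succ n ih =>
    have e : rp (n + 1) w = w ++ rp n w := rfl
    rw [e, wprod_append, ih, pow_succ']

/-- the element of order 16 -/
noncomputable def X : RuOrder.H := wprod ml wx

theorem comm_rp {x : RuOrder.H} {w : List ℕ} (h : x * wprod ml w = wprod ml w * x) (n : ℕ) :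
    x * wprod ml (rp n w) = wprod ml (rp n w) * x := by
  rw [wprod_rp]
  exact (Commute.pow_right (show Commute x (wprod ml w) from h) n).eq

theorem card_Cen : Nat.card (Cen [wx]) ≤ 16 := by
  refine card_le_of_run (w := wx) (List.mem_singleton.2 rfl) ?_ runX
  intro m hm
  simp only [List.mem_cons, List.not_mem_nil, or_false] at hm
  have key : ∀ x ∈ Cen [wx], x * wprod ml wx = wprod ml wx * x := fun x hx => hx _ (List.mem_singleton.2 rfl)
  rcases hm with rfl | rfl | rfl | rfl | rfl
  · exact ⟨_, fun x hx => comm_rp (key x hx) 1, adj1⟩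
  · exact ⟨_, fun x hx => comm_rp (key x hx) 2, adj2⟩
  · exact ⟨_, fun x hx => comm_rp (key x hx) 3, adj3⟩
  · exact ⟨_, fun x hx => comm_rp (key x hx) 4, adj4⟩
  · exact ⟨_, fun x hx => comm_rp (key x hx) 5, adj5⟩

theorem k16 : chkEq (rp 16 wx) [] = true := by decide +kernel
theorem k8 : Nat.beq (evalK (rp 8 wx) 0) 0 = false := by decide +kernel
theorem k5 : chkEq (wg ++ wx) (rp 5 wx ++ wg) = true := by decide +kernel
theorem kinv : chkEq (wi ++ wx) [] = true := by decide +kernel
theorem k2 : chkEq (wh ++ H436.RuCent.wB) (rp 2 H436.RuCent.wB ++ wh) = true := by decide +kernel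
theorem kfix : Nat.beq (popc 12 (fixMask wx)) 2 = true := by decide +kernel

theorem X_pow : X ^ 16 = 1 := by
  have h := eq_of_chkEq k16
  rwa [wprod_rp, wprod_nil] at h

theorem X_pow8 : X ^ 8 ≠ 1 := by
  intro h
  have h1 : (wprod ml (rp 8 wx) : RuOrder.H) = 1 := by rw [wprod_rp]; exact h
  have h2 := evalK_eq (rp 8 wx) ⟨0, by norm_num⟩
  rw [h1] at h2
  have h3 : evalK (rp 8 wx) 0 = 0 := h2.symm
  have h4 := k8
  rw [h3, Nat.beq_refl] at h4
  exact Bool.noConfusion h4

theorem orderOf_X : orderOf X = 16 := by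
  have h1 : orderOf X ∣ 2 ^ 4 := orderOf_dvd_of_pow_eq_one X_pow
  obtain ⟨k, hk, h2⟩ := (Nat.dvd_prime_pow Nat.prime_two).1 h1
  have h3 : ¬ orderOf X ∣ 8 := fun h => X_pow8 (orderOf_dvd_iff_pow_eq_one.1 h)
  rw [h2] at h3 ⊢
  have h4 : ¬ k ≤ 3 := fun h => h3 (pow_dvd_pow 2 h)
  have h5 : k = 4 := by omega
  rw [h5]
  norm_num

theorem card_cent : Nat.card (centralizer ({X} : Set RuOrder.H)) = 16 := by
  have := H436.TwoRu.finite_H
  apply le_antisymm
  · rw [X, H436.TwoRu.cen_eq]
    exact card_Cen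
  · have h3 : X ∈ centralizer ({X} : Set RuOrder.H) := mem_centralizer_singleton_iff.2 rfl
    have h4 := Subgroup.orderOf_dvd_natCard _ h3
    rw [orderOf_X] at h4
    exact Nat.le_of_dvd Nat.card_pos h4

/-- `x` is conjugate to `x ^ 5` -/
theorem conj5 : IsConj X (X ^ 5) := by
  have h := eq_of_chkEq k5
  rw [wprod_append, wprod_append, wprod_rp] at h
  rw [isConj_iff]
  refine ⟨wprod ml wg, ?_⟩
  rw [mul_inv_eq_iff_eq_mul]
  exact h

/-- an element of order 13 -/
noncomputable def Y : RuOrder.H := wprod ml H436.RuCent.wB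

theorem conj2 : IsConj Y (Y ^ 2) := by
  have h := eq_of_chkEq k2
  rw [wprod_append, wprod_append, wprod_rp] at h
  rw [isConj_iff]
  refine ⟨wprod ml wh, ?_⟩
  rw [mul_inv_eq_iff_eq_mul]
  exact h

/-! ### `x` is not conjugate to its inverse -/

/-- difference of masks -/
def dif (a b : ℕ) : ℕ := Nat.xor a (Nat.land a b)

/-- the sixteen points of the cell -/
def cellK : ℕ := dif (dif (dif (Nat.land M2 M4) M1) M3) M5

/-- the intersection of the rows of the images of `c` under the powers of `x⁻¹` -/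
noncomputable def cap (c : ℕ) (l : List (ℕ × Bool)) : ℕ :=
  List.rec (motive := fun _ => ℕ) (Nat.sub (Nat.pow 2 4060) 1) (fun a _ ih => force ih fun m =>
    force (evalK (rp a.1 wi) c) fun v => force (row v) fun r =>
      force (Bool.rec (Nat.xor m (Nat.land m r)) (Nat.land m r) a.2) fun y => y) l

def pat : List (ℕ × Bool) :=
  [(1, true), (2, true), (3, true), (4, true), (5, true), (8, true), (10, true), (15, false)]

/-- no point has the reversed pattern -/
noncomputable def chkN : Bool :=
  force cellK fun K => allB (fun c => Bool.rec true (Nat.beq (cap c pat) 0) (tb K c)) 4060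

/-- the pattern of the point 8 -/
noncomputable def chkP : Bool :=
  force (row 8) fun r => allL (fun a : ℕ × Bool => force (evalK (rp a.1 wx) 69) fun v =>
      Bool.rec (Bool.rec true false a.2) a.2 (tb r v)) pat

theorem chkN_eq : chkN = true := by decide +kernel
theorem chkP_eq : chkP = true := by decide +kernel
theorem chkQ_eq : tb cellK 69 = true := by decide +kernel

/-- the action on the points -/
noncomputable abbrev pt (g : RuOrder.H) (p : Fin 4060) : Fin 4060 := (g : Equiv.Perm (Fin 4060)) p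

theorem pt_mul (g h : RuOrder.H) (p : Fin 4060) : pt (g * h) p = pt g (pt h p) := rfl

theorem symm' (u v : Fin 4060) : (row u).testBit (v : ℕ) = (row v).testBit (u : ℕ) :=
  symCheck_sound RuOrder.sym (lt_trans u.2 (by norm_num)) (lt_trans v.2 (by norm_num))

theorem row_pt (g : RuOrder.H) (u v : Fin 4060) :
    (row (pt g u : Fin 4060)).testBit (pt g v : Fin 4060) = (row u).testBit (v : ℕ) := g.2 u v

/-- the mask of the points adjacent to their images under `z` is invariant under the elements inverting `z` -/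
theorem inv_of_inverts {w : List ℕ} {M : ℕ} (h : chkAdj w M = true) {g : RuOrder.H}
    (hg : g * (wprod ml w)⁻¹ = wprod ml w * g) : Inv (g : Equiv.Perm (Fin 4060)) M := by
  intro p
  have h1 := testBit_adj h (pt g p)
  set z : RuOrder.H := wprod ml w with hz
  have h2 : pt z (pt g p) = pt g (pt z⁻¹ p) := by
    rw [← pt_mul, ← pt_mul, ← hg]
  have h3 : M.testBit (pt g p : Fin 4060) = (row (pt g p : Fin 4060)).testBit (pt z (pt g p) : Fin 4060) := h1
  have h4 := testBit_adj h (pt z⁻¹ p)
  have h5 : M.testBit (pt z⁻¹ p : Fin 4060) = (row (pt z⁻¹ p : Fin 4060)).testBit (pt z (pt z⁻¹ p) : Fin 4060) := h4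
  have h6 : pt z (pt z⁻¹ p) = p := by
    rw [← pt_mul, mul_inv_cancel]
    rfl
  have h7 : Inv ((z⁻¹ : RuOrder.H) : Equiv.Perm (Fin 4060)) M := by
    refine inv_adj h (z⁻¹ : RuOrder.H).2 fun i => ?_
    show pt z⁻¹ (pt z i) = pt z (pt z⁻¹ i)
    rw [← pt_mul, ← pt_mul, inv_mul_cancel, mul_inv_cancel]
  change M.testBit (pt g p : Fin 4060) = M.testBit (p : ℕ)
  rw [h3, h2, row_pt, symm', ← h7 p]
  change _ = M.testBit (pt z⁻¹ p : Fin 4060)
  rw [h5, h6]

theorem inv_dif {σ : Equiv.Perm (Fin 4060)} {a b : ℕ} (ha : Inv σ a) (hb : Inv σ b) : Inv σ (dif a b) :=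
  inv_xor ha (inv_land ha hb)

theorem testBit_cap {c q : ℕ} (hq : q < 4060) : ∀ l : List (ℕ × Bool),
    (∀ a ∈ l, (row (evalK (rp a.1 wi) c)).testBit q = a.2) → (cap c l).testBit q = true
  | [], _ => by
    change (2 ^ 4060 - 1).testBit q = true
    rw [Nat.testBit_two_pow_sub_one]
    simpa using hq
  | a :: l, h => by
    have ih := testBit_cap hq l fun b hb => h b (List.mem_cons_of_mem _ hb)
    have h1 := h a List.mem_cons_self
    have e : cap c (a :: l) = force (cap c l) fun m => force (evalK (rp a.1 wi) c) fun v => force (row v) fun r =>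
      force (Bool.rec (Nat.xor m (Nat.land m r)) (Nat.land m r) a.2) fun y => y := rfl
    rw [e, force_eq, force_eq, force_eq, force_eq]
    rcases a with ⟨n, b⟩
    cases b
    · change ((cap c l) ^^^ ((cap c l) &&& row (evalK (rp n wi) c))).testBit q = true
      rw [Nat.testBit_xor, Nat.testBit_and, ih, h1]
      rfl
    · change ((cap c l) &&& row (evalK (rp n wi) c)).testBit q = true
      rw [Nat.testBit_and, ih, h1]
      rfl

theorem wi_eq : (wprod ml wi : RuOrder.H) = X⁻¹ := by
  have h := eq_of_chkEq kinv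
  rw [wprod_append, wprod_nil] at h
  exact eq_inv_of_mul_eq_one_left h

theorem not_inverted (g : RuOrder.H) (hg : g * X = X⁻¹ * g) : False := by
  -- the element `g` inverts the powers of `x`
  have hpow : ∀ n : ℕ, g * X ^ n = (X⁻¹) ^ n * g := by
    intro n
    induction n with
    | zero => simp
    | succ n ih => rw [pow_succ, ← mul_assoc, ih, mul_assoc, hg, ← mul_assoc, ← pow_succ]
  have hpow' : ∀ n : ℕ, g * (wprod ml (rp n wx) : RuOrder.H)⁻¹ = wprod ml (rp n wx) * g := by
    intro n
    rw [wprod_rp]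
    change g * (X ^ n)⁻¹ = X ^ n * g
    have h1 := hpow n
    rw [inv_pow] at h1
    rw [eq_comm, eq_mul_inv_iff_mul_eq, mul_assoc, h1, ← mul_assoc, mul_inv_cancel, one_mul]
  set b : Fin 4060 := ⟨69, by norm_num⟩ with hb
  set q : Fin 4060 := ⟨8, by norm_num⟩ with hq
  -- the cell is invariant
  have hK : Inv (g : Equiv.Perm (Fin 4060)) cellK :=
    inv_dif (inv_dif (inv_dif (inv_land (inv_of_inverts adj2 (hpow' 2)) (inv_of_inverts adj4 (hpow' 4)))
      (inv_of_inverts adj1 (hpow' 1))) (inv_of_inverts adj3 (hpow' 3))) (inv_of_inverts adj5 (hpow' 5))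
  -- the pattern
  have hP := chkP_eq
  rw [chkP, force_eq] at hP
  have hP2 := chkQ_eq
  rw [tb_eq] at hP2
  have hP3 : ∀ a ∈ pat, (row 8).testBit (evalK (rp a.1 wx) 69) = a.2 := by
    intro a ha
    have h1 := (allL_iff _ _).1 hP a ha
    rw [force_eq, tb_eq] at h1
    revert h1
    cases a.2 <;> cases (row 8).testBit (evalK (rp a.1 wx) 69) <;> simp
  -- the point `g b`
  have hc1 : cellK.testBit (pt g b : Fin 4060) = true := by
    rw [show cellK.testBit (pt g b : Fin 4060) = cellK.testBit (b : ℕ) from hK b]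
    exact hP2
  have hN := chkN_eq
  rw [chkN, force_eq, allB_iff] at hN
  have hN1 := hN (pt g b : Fin 4060) (pt g b : Fin 4060).2
  rw [tb_eq, hc1] at hN1
  have hN2 : cap (pt g b : Fin 4060) pat = 0 := Nat.eq_of_beq_eq_true hN1
  have hN3 : (cap (pt g b : Fin 4060) pat).testBit (pt g q : Fin 4060) = true := by
    refine testBit_cap (pt g q : Fin 4060).2 pat fun a ha => ?_
    rw [← hP3 a ha]
    have e1 : evalK (rp a.1 wi) (pt g b : Fin 4060) = (pt g (pt (X ^ a.1) b) : Fin 4060) := by
      rw [← evalK_eq (rp a.1 wi) (pt g b), wprod_rp, wi_eq]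
      change (((pt ((X⁻¹) ^ a.1) (pt g b) : Fin 4060)) : ℕ) = _
      rw [← pt_mul, ← pt_mul, hpow]
    have e2 : evalK (rp a.1 wx) 69 = ((pt (X ^ a.1) b : Fin 4060) : ℕ) := by
      rw [show (69 : ℕ) = (b : ℕ) from rfl, ← evalK_eq (rp a.1 wx) b, wprod_rp]
      rfl
    rw [e1, e2, row_pt g (pt (X ^ a.1) b) q, symm']
  rw [hN2, Nat.zero_testBit] at hN3
  exact Bool.noConfusion hN3

/-- **`x` is not conjugate to its inverse** -/
theorem not_conj_inv : ¬ IsConj X X⁻¹ := by
  rw [isConj_iff]
  rintro ⟨g, hg⟩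
  refine not_inverted g ?_
  rw [← hg]
  group

/-- the number of fixed points -/
theorem card_fix : Nat.card (MulAction.fixedBy (Fin 4060) X) = 2 := by
  classical
  have h1 : Nat.card (MulAction.fixedBy (Fin 4060) X) = (pts 4060 (fixMask wx)).card := by
    rw [← Fintype.card_coe, ← Nat.card_eq_fintype_card]
    refine Nat.card_congr (Equiv.subtypeEquivRight fun i => ?_)
    rw [mem_pts, testBit_fixMask]
    rfl
  have h2 : popc 12 (fixMask wx) = 2 := Nat.eq_of_beq_eq_true kfix
  rw [h1, ← h2]
  apply le_antisymm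
  · exact card_pts_le (by norm_num) _
  · apply card_pts_eq
    intro i hi
    by_contra hge
    push Not at hge
    rw [fixMask, force_eq] at hi
    have e : ((2 ^ 4060 - 1) ^^^ ((2 ^ 4060 - 1) &&& diffM wx [0, 1, 2, 3, 4, 5, 6, 7, 8, 9, 10, 11])).testBit i =
        true := hi
    rw [Nat.testBit_xor, Nat.testBit_and, Nat.testBit_two_pow_sub_one] at e
    have h3 : decide (i < 4060) = false := by simpa using hge
    rw [h3] at e
    simp at e

end Cfsg.Agent.H536.K4.RuX
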